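import Cfsg.Agent.Lib.Invol.IsolatedSfour.LType.Shape
import Cfsg.Agent.Lib.Grp.CoprimeAbelian
import Cfsg.Agent.S2797

/-!
# The automiser of `A`

The stabiliser `U` of the chain `1 ≤ Z ≤ A` in the automiser is a TI Sylow 2-subgroup of order `q` whose normaliser
`M` is the stabiliser of `Z`. When `Z` is moved, `M` is strongly embedded.
-/

set_option autoImplicit false
set_option linter.unusedSectionVars false
set_option linter.style.haveILetI false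

namespace Cfsg.Agent.Invol.IsolatedSfour.LType

open Subgroup Cfsg.Agent.Grp

universe u

variable {G : Type u} [Group G] [Finite G] {F : Type} [Field F] [Fintype F] [CharP F 2] (s : Shape G F)

namespace Shape

/-- The action of the normalizer of `A`. -/
noncomputable def th : ↥(normalizer (s.A : Set G)) →* MulAut ↥s.A := s.A.normalizerMonoidHom

theorem coe_th (g : ↥(normalizer (s.A : Set G))) (a : ↥s.A) :
    ((s.th g a : ↥s.A) : G) = (g : G) * a * (g : G)⁻¹ := rfl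

theorem mem_ker_th {g : ↥(normalizer (s.A : Set G))} :
    g ∈ s.th.ker ↔ ∀ a ∈ s.A, (g : G) * a = a * g := by
  rw [th, normalizerMonoidHom_ker, mem_subgroupOf, mem_centralizer_iff]
  exact ⟨fun h a ha => (h a ha).symm, fun h a ha => (h a ha).symm⟩

/-- The automiser fixes `Z`. -/
def Pres : Prop := ∀ g ∈ normalizer (s.A : Set G), ∀ z ∈ s.Z, g * z * g⁻¹ ∈ s.Z

/-- The automiser. -/
noncomputable abbrev X : Subgroup (MulAut ↥s.A) := s.th.range

/-- The stabiliser of the chain. -/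
def U : Subgroup ↥s.X where
  carrier := {α | (∀ a : ↥s.A, (((α : MulAut ↥s.A) a * a⁻¹ : ↥s.A) : G) ∈ s.Z) ∧
    ∀ a : ↥s.A, (a : G) ∈ s.Z → (α : MulAut ↥s.A) a = a}
  one_mem' := ⟨fun a => by simp, fun a _ => rfl⟩
  mul_mem' := fun {α β} hα hβ => ⟨fun a => by
      have h1 := hα.1 a
      have h2 : (α : MulAut ↥s.A) ((β : MulAut ↥s.A) a * a⁻¹) = (β : MulAut ↥s.A) a * a⁻¹ := hα.2 _ (hβ.1 a)
      rw [map_mul, map_inv] at h2
      have h3 := mul_mem (hβ.1 a) (hα.1 a)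
      rw [← Subgroup.coe_mul, ← h2] at h3
      convert h3 using 2
      show (α : MulAut ↥s.A) ((β : MulAut ↥s.A) a) * a⁻¹ = _
      group,
    fun a ha => by
      show (α : MulAut ↥s.A) ((β : MulAut ↥s.A) a) = a
      rw [hβ.2 a ha, hα.2 a ha]⟩
  inv_mem' := fun {α} hα => ⟨fun a => by
      have h1 := hα.1 ((α : MulAut ↥s.A)⁻¹ a)
      rw [MulAut.apply_inv_self] at h1
      have h2 := inv_mem h1
      rw [← Subgroup.coe_inv] at h2
      convert h2 using 2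
      show (α : MulAut ↥s.A)⁻¹ a * a⁻¹ = _
      group,
    fun a ha => by
      show (α : MulAut ↥s.A)⁻¹ a = a
      conv_lhs => rw [← hα.2 a ha]
      exact MulAut.inv_apply_self ↥s.A _ a⟩

/-- The stabiliser of `Z`. -/
def M : Subgroup ↥s.X where
  carrier := {α | ∀ a : ↥s.A, ((((α : MulAut ↥s.A) a : ↥s.A) : G) ∈ s.Z ↔ (a : G) ∈ s.Z)}
  one_mem' := fun a => Iff.rfl
  mul_mem' := fun {α β} hα hβ a => (hα ((β : MulAut ↥s.A) a)).trans (hβ a)
  inv_mem' := fun {α} hα a => by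
    show ((((α : MulAut ↥s.A)⁻¹ a : ↥s.A) : G) ∈ s.Z ↔ _)
    rw [← hα ((α : MulAut ↥s.A)⁻¹ a), MulAut.apply_inv_self]

theorem U_le_M : s.U ≤ s.M := fun α hα a => by
  constructor
  · intro h
    have h1 := mul_mem (inv_mem (hα.1 a)) h
    simpa using h1
  · intro h
    rw [hα.2 a h]; exact h

theorem conj_mem_U {m u : ↥s.X} (hm : m ∈ s.M) (hu : u ∈ s.U) : m * u * m⁻¹ ∈ s.U := by
  refine ⟨fun a => ?_, fun a ha => ?_⟩
  · set b := (m : MulAut ↥s.A)⁻¹ a with hb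
    have h1 := (hm _).2 (hu.1 b)
    have e : (m : MulAut ↥s.A) b = a := MulAut.apply_inv_self _ _ _
    rw [map_mul, map_inv, e] at h1
    exact h1
  · show (m : MulAut ↥s.A) ((u : MulAut ↥s.A) ((m : MulAut ↥s.A)⁻¹ a)) = a
    exact (congrArg (m : MulAut ↥s.A) (hu.2 _ ((s.M.inv_mem hm a).2 ha))).trans (MulAut.apply_inv_self _ _ _)

theorem U_sq {α : ↥s.X} (hα : α ∈ s.U) : α * α = 1 := by
  refine Subtype.ext (MulEquiv.ext fun a => ?_)
  show (α : MulAut ↥s.A) ((α : MulAut ↥s.A) a) = a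
  have h1 := hα.2 _ (hα.1 a)
  rw [map_mul, map_inv] at h1
  have hz : ((α : MulAut ↥s.A) a * a⁻¹) * ((α : MulAut ↥s.A) a * a⁻¹) = 1 :=
    Subtype.ext (s.A_sq ((α : MulAut ↥s.A) a * a⁻¹).2)
  calc (α : MulAut ↥s.A) ((α : MulAut ↥s.A) a) = ((α : MulAut ↥s.A) a * a⁻¹) * (α : MulAut ↥s.A) a := by
        rw [← h1]; group
    _ = ((α : MulAut ↥s.A) a * a⁻¹) * ((α : MulAut ↥s.A) a * a⁻¹) * a := by group
    _ = a := by rw [hz, one_mul]

theorem U_isPGroup : IsPGroup 2 ↥s.U := fun α => ⟨1, Subtype.ext (by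
  rw [pow_one, SubmonoidClass.coe_pow, pow_two]; exact s.U_sq α.2)⟩

/-- The element of the automiser induced by `e(0, y, 0)`. -/
noncomputable def up (y : F) : ↥s.X := ⟨s.th ⟨_, s.S_le_normalizer (s.e_mem 0 y 0)⟩, _, rfl⟩

theorem up_coe (y : F) (a : ↥s.A) :
    (((s.up y : MulAut ↥s.A) a : ↥s.A) : G) = s.e 0 y 0 * a * (s.e 0 y 0)⁻¹ := rfl

theorem up_mul (x y : F) : s.up x * s.up y = s.up (x + y) := by
  refine Subtype.ext (MulEquiv.ext fun a => Subtype.ext ?_)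
  show s.e 0 x 0 * (s.e 0 y 0 * a * (s.e 0 y 0)⁻¹) * (s.e 0 x 0)⁻¹ = _
  rw [s.up_coe, show s.e 0 x 0 * (s.e 0 y 0 * (a : G) * (s.e 0 y 0)⁻¹) * (s.e 0 x 0)⁻¹ =
    (s.e 0 x 0 * s.e 0 y 0) * a * (s.e 0 x 0 * s.e 0 y 0)⁻¹ by group, s.e_mul]
  simp

theorem up_mem_U (y : F) : s.up y ∈ s.U := by
  refine ⟨fun a => ?_, fun a ha => Subtype.ext ?_⟩
  · obtain ⟨x, z, e⟩ := a.2
    rw [Subgroup.coe_mul, s.up_coe, Subgroup.coe_inv, ← e, s.e_conj, s.e_inv, s.e_mul, s.e_mem_Z]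
    simp [Shape.addSelf]
  · rw [s.up_coe, s.Z_central (s.e_mem _ _ _) ha, mul_inv_cancel_right]

theorem up_injective : Function.Injective s.up := fun x y h => by
  have h1 := congrArg (fun α : ↥s.X => (((α : MulAut ↥s.A) ⟨_, (s.e_mem_A.2 rfl : s.e 1 0 0 ∈ s.A)⟩ : ↥s.A) : G)) h
  simp only [s.up_coe, s.e_conj] at h1
  simpa using (s.e_inj _ _ _ _ _ _ h1).2.2

theorem th_S {g : G} (hg : g ∈ (s.S : Subgroup G)) : ∃ y, s.th ⟨g, s.S_le_normalizer hg⟩ = (s.up y : MulAut ↥s.A) := by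
  obtain ⟨a, b, c, rfl⟩ := (s.mem_iff g).1 hg
  refine ⟨b, MulEquiv.ext fun w => Subtype.ext ?_⟩
  obtain ⟨x, z, e⟩ := w.2
  rw [s.coe_th, s.up_coe, ← e, s.e_conj, s.e_conj]

/-- A Sylow 2-subgroup of the automiser is `U`. -/
theorem exists_sylow : ∃ P : Sylow 2 ↥s.X, (P : Subgroup ↥s.X) = s.U ∧ ∀ α ∈ s.U, ∃ y, s.up y = α := by
  haveI : Fact (Nat.Prime 2) := ⟨Nat.prime_two⟩
  let P := (s.S.subtype s.S_le_normalizer).mapSurjective s.th.rangeRestrict_surjective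
  have hle : ∀ α ∈ (P : Subgroup ↥s.X), ∃ y, s.up y = α := by
    rintro α hα
    obtain ⟨⟨g, hg⟩, hgS, rfl⟩ := (hα : α ∈ (s.S.subtype s.S_le_normalizer : Subgroup _).map s.th.rangeRestrict)
    obtain ⟨y, hy⟩ := s.th_S (mem_subgroupOf.1 hgS)
    exact ⟨y, Subtype.ext hy.symm⟩
  have hPU : (P : Subgroup ↥s.X) ≤ s.U := fun α hα => by
    obtain ⟨y, rfl⟩ := hle α hα
    exact s.up_mem_U y
  have heq := P.is_maximal' s.U_isPGroup hPU
  exact ⟨P, heq.symm, fun α hα => hle α (heq.le hα)⟩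

theorem exists_up {α : ↥s.X} (hα : α ∈ s.U) : ∃ y, s.up y = α := by
  obtain ⟨-, -, h⟩ := s.exists_sylow
  exact h α hα

theorem card_U : Nat.card ↥s.U = Fintype.card F := by
  rw [← Nat.card_eq_fintype_card]
  refine (Nat.card_eq_of_bijective (fun y : F => (⟨s.up y, s.up_mem_U y⟩ : ↥s.U))
    ⟨fun x y h => s.up_injective (congrArg Subtype.val h), fun ⟨α, hα⟩ => ?_⟩).symm
  obtain ⟨y, rfl⟩ := s.exists_up hα
  exact ⟨y, rfl⟩

theorem up_zero : s.up 0 = 1 := Subtype.ext (MulEquiv.ext fun a => Subtype.ext (by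
  rw [s.up_coe, s.e_one]; simp))

/-- A nontrivial element of `U` fixes exactly `Z`. -/
theorem fix_U {α : ↥s.X} (hα : α ∈ s.U) (h1 : α ≠ 1) {a : ↥s.A} :
    (α : MulAut ↥s.A) a = a ↔ (a : G) ∈ s.Z := by
  refine ⟨fun h => ?_, fun h => hα.2 a h⟩
  obtain ⟨y, rfl⟩ := s.exists_up hα
  by_contra hZ
  have hB : (a : G) ∉ s.B := fun hb => hZ ⟨a.2, hb⟩
  have h2 := s.mem_A_of_comm (s.e_mem 0 y 0) a.2 hB (mul_inv_eq_iff_eq_mul.1 (congrArg Subtype.val h))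
  rw [s.e_mem_A] at h2
  rw [h2, up_zero] at h1
  exact h1 rfl

/-- `U` is a trivial intersection set with normalizer `M`. -/
theorem mem_M_of_conj {g u : ↥s.X} (hu : u ∈ s.U) (h1 : u ≠ 1) (hgu : g * u * g⁻¹ ∈ s.U) : g ∈ s.M := by
  intro a
  have h2 : g * u * g⁻¹ ≠ 1 := fun e => h1 (conj_eq_one_iff.1 e)
  rw [← s.fix_U hgu h2, ← s.fix_U hu h1]
  show ((g : MulAut ↥s.A) ((u : MulAut ↥s.A) ((g : MulAut ↥s.A)⁻¹ ((g : MulAut ↥s.A) a))) = _ ↔ _)
  rw [MulAut.inv_apply_self]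
  exact (g : MulAut ↥s.A).injective.eq_iff

/-- An involution of `M` lies in `U`. -/
theorem mem_U_of_invol {t : ↥s.X} (ht : t ∈ s.M) (h2 : t * t = 1) : t ∈ s.U := by
  haveI : Fact (Nat.Prime 2) := ⟨Nat.prime_two⟩
  have hz : IsPGroup 2 ↥(zpowers t) := fun w => by
    obtain ⟨i, hi⟩ := w.2
    refine ⟨1, Subtype.ext ?_⟩
    rw [pow_one, SubmonoidClass.coe_pow, ← hi, pow_two, ← (Commute.refl t).mul_zpow, h2, one_zpow]
    rfl
  obtain ⟨P, hP, -⟩ := s.exists_sylow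
  have hn : zpowers t ≤ normalizer (s.U : Set ↥s.X) :=
    zpowers_le.2 (mem_normalizer_fintype fun u hu => s.conj_mem_U ht hu)
  have hsup := IsPGroup.to_sup_of_normal_right' hz s.U_isPGroup hn
  have := P.is_maximal' hsup (hP ▸ le_sup_right)
  rw [hP] at this
  exact this ▸ mem_sup_left (mem_zpowers t)

theorem M_ne_top (h : ¬ s.Pres) : s.M ≠ ⊤ := by
  intro e
  refine h fun g hg z hz => ?_
  have hm : (⟨s.th ⟨g, hg⟩, _, rfl⟩ : ↥s.X) ∈ s.M := e ▸ mem_top _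
  exact (hm ⟨z, s.Z_le_A hz⟩).2 hz

theorem M_strongly_embedded (h : ¬ s.Pres) : Cfsg.IsStronglyPEmbedded 2 s.M := by
  haveI : Fact (Nat.Prime 2) := ⟨Nat.prime_two⟩
  obtain ⟨P, hP, -⟩ := s.exists_sylow
  have h2 : 2 ∣ Nat.card ↥s.M := by
    refine dvd_trans ?_ (card_dvd_of_le s.U_le_M)
    rw [s.card_U]
    obtain ⟨n, -, hn⟩ := FiniteField.card F 2
    rw [hn]
    exact dvd_pow_self 2 n.pos.ne'
  refine (Cfsg.Agent.S2797.result P s.M (s.M_ne_top h) h2 _ rfl).1.2 fun g hg hd => hg ?_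
  obtain ⟨⟨t, hmem⟩, ht⟩ := exists_prime_orderOf_dvd_card' (G := ↥(s.M ⊓ s.M.map (MulAut.conj g).toMonoidHom)) 2 hd
  rw [Subgroup.orderOf_mk] at ht
  obtain ⟨htM, t', ht'M, e⟩ := mem_inf.1 hmem
  have e' : g * t' * g⁻¹ = t := e
  have hsq : t * t = 1 := by rw [← pow_two, ← ht]; exact pow_orderOf_eq_one t
  have hsq' : t' * t' = 1 := conj_eq_one_iff.1 (show g * (t' * t') * g⁻¹ = 1 by rw [← hsq, ← e']; group)
  refine s.mem_M_of_conj (s.mem_U_of_invol ht'M hsq') (fun e1 => ?_) (e' ▸ s.mem_U_of_invol htM hsq)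
  rw [← e', e1, mul_one, mul_inv_cancel, orderOf_one] at ht
  omega

theorem U_not_cyclic : ¬ IsCyclic ↥s.U := by
  intro h
  obtain ⟨g, hg⟩ := h.exists_generator
  have h1 : Nat.card ↥s.U ≤ 2 := by
    rw [← orderOf_eq_card_of_forall_mem_zpowers hg]
    exact orderOf_le_of_pow_eq_one two_pos (Subtype.ext (by
      rw [SubmonoidClass.coe_pow, pow_two]; exact s.U_sq g.2))
  rw [s.card_U] at h1
  have := s.hq
  omega

theorem U_comm : IsMulCommutative ↥s.U := ⟨⟨fun a b => Subtype.ext (by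
  obtain ⟨x, hx⟩ := s.exists_up a.2
  obtain ⟨y, hy⟩ := s.exists_up b.2
  rw [Subgroup.coe_mul, Subgroup.coe_mul, ← hx, ← hy, s.up_mul, s.up_mul, add_comm])⟩⟩

/-- A normal subgroup of odd order of the automiser centralises `U`. -/
theorem odd_normal_centralizes {O : Subgroup ↥s.X} (hO : O.Normal) (hodd : Odd (Nat.card O)) :
    O ≤ centralizer (s.U : Set ↥s.X) := by
  haveI : Fact (Nat.Prime 2) := ⟨Nat.prime_two⟩
  haveI := s.U_comm
  haveI := hO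
  have hcop : (Nat.card ↥s.U).Coprime (Nat.card O) := by
    obtain ⟨k, hk⟩ := IsPGroup.iff_card.1 s.U_isPGroup
    rw [hk]
    exact Nat.Coprime.pow_left k (Nat.coprime_two_left.2 hodd)
  rw [← Grp.generated_by_centralizers s.U O s.U_not_cyclic (by rw [normalizer_eq_top]; exact le_top) hcop]
  refine iSup₂_le fun a ⟨ha, ha1⟩ => fun c ⟨hcO, hc⟩ => mem_centralizer_iff.2 fun u hu => ?_
  have hcM : c ∈ s.M := s.mem_M_of_conj ha ha1 (by
    rw [mem_centralizer_singleton_iff.1 hc, mul_inv_cancel_right]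
    exact ha)
  have h1 : c * u * c⁻¹ * u⁻¹ ∈ s.U := s.U.mul_mem (s.conj_mem_U hcM hu) (s.U.inv_mem hu)
  have h2 : c * u * c⁻¹ * u⁻¹ ∈ O := by
    rw [show c * u * c⁻¹ * u⁻¹ = c * (u * c⁻¹ * u⁻¹) by group]
    exact O.mul_mem hcO (hO.conj_mem _ (O.inv_mem hcO) u)
  have h3 : c * u * c⁻¹ * u⁻¹ = 1 := by
    have := mem_bot.1 ((Subgroup.inf_eq_bot_of_coprime hcop).le ⟨h1, h2⟩)
    exact this
  exact (mul_inv_eq_iff_eq_mul.1 (mul_inv_eq_one.1 h3)).symm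

end Shape

end Cfsg.Agent.Invol.IsolatedSfour.LType
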