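import Cfsg.Agent.Lib.Invol.IsolatedSfour.LType.Natural
import Cfsg.Agent.Lib.Fus.Goldschmidt.Main
import Cfsg.Prelude.Def_TwoFusion

/-!
# Fusion and strong closure; `A` is normal when a central involution lies in `Z`

If both automisers fix `Z` then `Z`, `A` and `B` are strongly closed. A component moved by `A` would be normalized
by `S`, would meet `S` in an abelian Sylow subgroup containing `Z`, and its central involution would be trivial.
-/

set_option autoImplicit false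
set_option linter.unusedSectionVars false
set_option linter.style.haveILetI false

namespace Cfsg.Agent.Invol.IsolatedSfour.LType

open Subgroup Cfsg.Agent.Grp

universe u

variable {G : Type u} [Group G] [Finite G] {F : Type} [Field F] [Fintype F] [CharP F 2] (s : Shape G F)

namespace Shape

/-- If the automiser of `A` preserves `Z`, then `A` is a Sylow subgroup of the centraliser of `a ∈ A ∖ B`. -/
theorem le_A_of_pres (hp : s.Pres) {a : G} (ha : a ∈ s.A) (haB : a ∉ s.B) {P : Subgroup G} (hP : IsPGroup 2 P)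
    (hAP : s.A ≤ P) (hPa : ∀ x ∈ P, x * a = a * x) : P ≤ s.A := by
  haveI : Fact (Nat.Prime 2) := ⟨Nat.prime_two⟩
  by_contra hne
  haveI : Group.IsNilpotent ↥P := hP.isNilpotent
  have hlt : s.A.subgroupOf P < ⊤ := lt_top_iff_ne_top.2 fun e => hne (subgroupOf_eq_top.1 e)
  obtain ⟨⟨g, hgP⟩, hgN, hgA⟩ := SetLike.exists_of_lt (normalizerCondition_of_isNilpotent _ hlt)
  rw [mem_subgroupOf] at hgA
  have hgN' : g ∈ normalizer (s.A : Set G) := mem_normalizer_fintype fun x hx =>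
    mem_subgroupOf.1 ((mem_normalizer_iff.1 hgN ⟨x, hAP hx⟩).1 (mem_subgroupOf.2 hx))
  obtain ⟨n, hn⟩ := hP ⟨g, hgP⟩
  set α : ↥s.X := ⟨s.th ⟨g, hgN'⟩, _, rfl⟩
  have htop : ∀ β : ↥s.X, β ∈ s.M := by
    rintro ⟨_, ⟨m, hm⟩, rfl⟩ w
    exact ⟨fun h => by
      have h1 := hp _ (inv_mem hm) _ h
      rwa [s.coe_th, show m⁻¹ * (m * (w : G) * m⁻¹) * m⁻¹⁻¹ = (w : G) by group] at h1,
      fun h => hp m hm _ h⟩
  have hpow : α ^ 2 ^ n = 1 := Subtype.ext (by
    rw [SubmonoidClass.coe_pow]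
    show s.th ⟨g, hgN'⟩ ^ 2 ^ n = 1
    rw [← map_pow]
    convert map_one s.th
    exact Subtype.ext (by simpa using congrArg Subtype.val hn))
  obtain ⟨k, hk⟩ := s.exists_conj_U hpow
  have hαU : α ∈ s.U := by
    have h1 := s.conj_mem_U (htop k⁻¹) hk
    rwa [show k⁻¹ * (k * α * k⁻¹) * k⁻¹⁻¹ = α by group] at h1
  have hα1 : α = 1 := by
    by_contra h1
    refine haB ((s.fix_U hαU h1 (a := ⟨a, ha⟩)).1 (Subtype.ext ?_)).2
    show g * a * g⁻¹ = a
    rw [hPa g hgP, mul_inv_cancel_right]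
  have hc : ∀ b ∈ s.A, g * b = b * g := fun b hb => mul_inv_eq_iff_eq_mul.1
    (congrArg (fun β : ↥s.X => (((β : MulAut ↥s.A) ⟨b, hb⟩ : ↥s.A) : G)) hα1 : g * b * g⁻¹ = b)
  have hsup : IsPGroup 2 (zpowers g ⊔ s.A : Subgroup G) := hP.to_le (sup_le (zpowers_le.2 hgP) hAP)
  refine hgA (s.le_A_of_centralizes hsup le_sup_right ?_ (mem_sup_left (mem_zpowers g)))
  intro u hu b hb
  have hle : zpowers g ⊔ s.A ≤ centralizer ({b} : Set G) :=
    sup_le (zpowers_le.2 (mem_centralizer_singleton_iff.2 (hc b hb)))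
      fun x hx => mem_centralizer_singleton_iff.2 (s.A_comm hx hb)
  exact mem_centralizer_singleton_iff.1 (hle hu)

/-- If the automiser of `B` preserves `Z`, then `A` is strongly closed. -/
theorem closed_of_pres_mirror (hp : s.mirror.Pres) : Cfsg.IsStronglyClosed s.A (s.S : Subgroup G) := by
  refine ⟨s.A_le, fun x hx g hg => ?_⟩
  by_contra hA
  set b := g * x * g⁻¹ with hb
  have hb2 : b * b = 1 := by
    rw [hb, show g * x * g⁻¹ * (g * x * g⁻¹) = g * (x * x) * g⁻¹ by group, s.A_sq hx]; group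
  have hbB := (s.mem_A_or_B hg hb2).resolve_left hA
  haveI : Fact (Nat.Prime 2) := ⟨Nat.prime_two⟩
  set C := centralizer ({b} : Set G)
  have hBC : s.B ≤ C := fun y hy => mem_centralizer_singleton_iff.2
    (s.mirror.A_comm (s.mirror_A.symm ▸ hy) (s.mirror_A.symm ▸ hbB))
  obtain ⟨P, hP⟩ := ((s.S.isPGroup'.to_le s.B_le).comap_of_injective C.subtype C.subtype_injective).exists_le_sylow
  have hPB : (P : Subgroup ↥C).map C.subtype ≤ s.B := by
    rw [← s.mirror_A]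
    refine s.mirror.le_A_of_pres hp (s.mirror_A.symm ▸ hbB) (s.mirror_B.symm ▸ hA) (P.isPGroup'.map _) ?_ ?_
    · rw [s.mirror_A]
      exact fun y hy => ⟨⟨y, hBC hy⟩, hP (mem_subgroupOf.2 hy), rfl⟩
    · rintro _ ⟨y, -, rfl⟩
      exact mem_centralizer_singleton_iff.1 y.2
  set U := s.A.map (MulAut.conj g).toMonoidHom
  have hUC : U ≤ C := by
    rintro _ ⟨a, ha, rfl⟩
    refine mem_centralizer_singleton_iff.2 ?_
    show g * a * g⁻¹ * (g * x * g⁻¹) = g * x * g⁻¹ * (g * a * g⁻¹)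
    rw [show g * a * g⁻¹ * (g * x * g⁻¹) = g * (a * x) * g⁻¹ by group,
      show g * x * g⁻¹ * (g * a * g⁻¹) = g * (x * a) * g⁻¹ by group, s.A_comm ha hx]
  obtain ⟨Q, hQ⟩ := ((s.A_pGroup.map (MulAut.conj g).toMonoidHom).comap_of_injective C.subtype
    C.subtype_injective).exists_le_sylow
  obtain ⟨k, hk⟩ := MulAction.exists_smul_eq ↥C Q P
  have hle : s.A.map (MulAut.conj ((k : G) * g)).toMonoidHom ≤ s.B := by
    rintro _ ⟨a, ha, rfl⟩
    refine hPB ⟨k * ⟨g * a * g⁻¹, hUC ⟨a, ha, rfl⟩⟩ * k⁻¹, ?_, by simp [MulAut.conj_apply, mul_assoc]⟩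
    rw [← hk, Sylow.coe_subgroup_smul]
    exact ⟨_, hQ (mem_subgroupOf.2 ⟨a, ha, rfl⟩), rfl⟩
  exact s.not_conj _ (eq_of_le_of_card_ge hle (by
    rw [card_map_of_injective (MulAut.conj _).injective, ← s.mirror_A, s.mirror.card_A, s.card_A]))

theorem localHyp (hcl : Cfsg.IsStronglyClosed s.A (s.S : Subgroup G)) (hO : Cfsg.oddCore G = ⊥) :
    Fus.Gold.LocalHyp G s.A where
  core := hO
  elem := s.A_elem
  closed T hT hAT x hx g hg := by
    obtain ⟨h, hh⟩ := s.exists_conj_S hT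
    have hA := (s.conj_A_cases fun a ha => hh a (hAT ha)).resolve_right (s.not_conj h)
    have h1 : h * g * x * (h * g)⁻¹ ∈ s.A := hcl.2 x hx (h * g) (by
      rw [show h * g * x * (h * g)⁻¹ = h * (g * x * g⁻¹) * h⁻¹ by group]; exact hh _ hg)
    rw [← hA] at h1
    obtain ⟨a, ha, e⟩ := h1
    have e' : g * x * g⁻¹ = a := by
      refine mul_left_cancel (a := h) (mul_right_cancel (b := h⁻¹) ?_)
      rw [show h * (g * x * g⁻¹) * h⁻¹ = h * g * x * (h * g)⁻¹ by group]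
      exact e.symm
    rw [e']; exact ha
  comp K hK := by
    haveI := hK.2.2
    exact Fus.Gold.conclusion_all _ hK.2.2 (Fus.Gold.not_comm_quotient hK)

/-- The normalizer of `A` controls the fusion in `A`. -/
theorem exists_normalizer_conj {a g : G} (ha : a ∈ s.A) (hga : g * a * g⁻¹ ∈ s.A) :
    ∃ n ∈ normalizer (s.A : Set G), n * a * n⁻¹ = g * a * g⁻¹ := by
  haveI : Fact (Nat.Prime 2) := ⟨Nat.prime_two⟩
  set b := g * a * g⁻¹ with hb
  set C := centralizer ({b} : Set G)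
  set U := s.A.map (MulAut.conj g).toMonoidHom
  have hAC : s.A ≤ C := fun y hy => mem_centralizer_singleton_iff.2 (s.A_comm hy hga)
  have hUC : U ≤ C := by
    rintro _ ⟨w, hw, rfl⟩
    refine mem_centralizer_singleton_iff.2 ?_
    show g * w * g⁻¹ * (g * a * g⁻¹) = g * a * g⁻¹ * (g * w * g⁻¹)
    rw [show g * w * g⁻¹ * (g * a * g⁻¹) = g * (w * a) * g⁻¹ by group,
      show g * a * g⁻¹ * (g * w * g⁻¹) = g * (a * w) * g⁻¹ by group, s.A_comm hw ha]
  obtain ⟨P, hP⟩ := (s.A_pGroup.comap_of_injective C.subtype C.subtype_injective).exists_le_sylow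
  obtain ⟨Q, hQ⟩ := ((s.A_pGroup.map (MulAut.conj g).toMonoidHom).comap_of_injective C.subtype
    C.subtype_injective).exists_le_sylow
  obtain ⟨k, hk⟩ := MulAction.exists_smul_eq ↥C Q P
  obtain ⟨h, hh⟩ := s.exists_conj_S (P.isPGroup'.map C.subtype)
  have hAh : s.A.map (MulAut.conj h).toMonoidHom = s.A :=
    (s.conj_A_cases fun y hy => hh y ⟨⟨y, hAC hy⟩, hP (mem_subgroupOf.2 hy), rfl⟩).resolve_right (s.not_conj h)
  have hhn : h ∈ normalizer (s.A : Set G) := mem_normalizer_iff_map_conj_eq.2 hAh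
  have hm : h * k * g ∈ normalizer (s.A : Set G) := by
    refine mem_normalizer_iff_map_conj_eq.2 ?_
    refine (s.conj_A_cases fun y hy => ?_).resolve_right (s.not_conj _)
    have h1 := hh ((k : G) * (g * y * g⁻¹) * (k : G)⁻¹) ⟨k * ⟨g * y * g⁻¹, hUC ⟨y, hy, rfl⟩⟩ * k⁻¹, ?_, rfl⟩
    · simpa [mul_assoc] using h1
    · rw [← hk, Sylow.coe_subgroup_smul]
      exact ⟨_, hQ (mem_subgroupOf.2 ⟨y, hy, rfl⟩), rfl⟩
  refine ⟨h⁻¹ * (h * k * g), mul_mem (inv_mem hhn) hm, ?_⟩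
  have hkb := mem_centralizer_singleton_iff.1 k.2
  calc h⁻¹ * (h * k * g) * a * (h⁻¹ * (h * k * g))⁻¹ = (k : G) * b * (k : G)⁻¹ := by rw [hb]; group
    _ = b := by rw [hkb, mul_inv_cancel_right]

/-- If both automisers fix `Z`, then `Z` is strongly closed. -/
theorem Z_closed (hA : s.Pres) (hB : s.mirror.Pres) {z g : G} (hz : z ∈ s.Z)
    (hg : g * z * g⁻¹ ∈ (s.S : Subgroup G)) : g * z * g⁻¹ ∈ s.Z := by
  have h2 : g * z * g⁻¹ * (g * z * g⁻¹) = 1 := by
    rw [show g * z * g⁻¹ * (g * z * g⁻¹) = g * (z * z) * g⁻¹ by group, s.A_sq (s.Z_le_A hz)]; group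
  rcases s.mem_A_or_B hg h2 with h | h
  · obtain ⟨n, hn, e⟩ := s.exists_normalizer_conj (s.Z_le_A hz) h
    exact e ▸ hA n hn z hz
  · rw [← s.mirror_Z] at hz ⊢
    rw [← s.mirror_A] at h
    obtain ⟨n, hn, e⟩ := s.mirror.exists_normalizer_conj (s.mirror.Z_le_A hz) h
    exact e ▸ hB n hn z hz

theorem comm_mem_Z {t a : G} (ht : t ∈ (s.S : Subgroup G)) (ha : a ∈ s.A) : t * a * t⁻¹ * a⁻¹ ∈ s.Z := by
  obtain ⟨x, y, z, rfl⟩ := (s.mem_iff t).1 ht
  obtain ⟨p, r, rfl⟩ := ha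
  rw [s.e_conj, s.e_inv, s.e_mul, s.e_mem_Z]
  simp [Shape.addSelf]

/-- A component moved by `A` is normalized by `S`. -/
theorem S_le_normalizer_comp (h : Fus.Gold.LocalHyp G s.A) (hA : s.Pres) (hB : s.mirror.Pres) {K : Subgroup G}
    (hK : Cfsg.IsComponent K) (hm : ¬ s.A ≤ centralizer (K : Set G)) :
    (s.S : Subgroup G) ≤ normalizer (K : Set G) := by
  classical
  by_contra hne
  obtain ⟨t, ht, htK⟩ := SetLike.not_le_iff_exists.1 hne
  set C := centralizer (K : Set G)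
  have hne' : K.map (MulAut.conj t).toMonoidHom ≠ K := fun e => htK (mem_normalizer_fintype fun x hx => by
    have : (MulAut.conj t).toMonoidHom x ∈ K.map (MulAut.conj t).toMonoidHom := ⟨x, hx, rfl⟩
    rw [e] at this
    exact this)
  have htk : ∀ w ∈ K, t * w * t⁻¹ ∈ C := fun w hw =>
    (Grp.IsComponent.commute (IsComponent.conj hK t) hK hne') ⟨w, hw, rfl⟩
  have hZK : ∀ z ∈ s.Z, z ∈ K → z ∈ C := fun z hz hzK => by
    have := htk z hzK
    rwa [s.Z_central ht hz, mul_inv_cancel_right] at this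
  obtain ⟨a, ha, haC⟩ := SetLike.not_le_iff_exists.1 (Fus.Gold.not_le_of_moved h hK hm)
  set c := t * a * t⁻¹ with hcdef
  have hcC : c ∈ C := htk a ha.2
  have key : ∀ y ∈ s.A ⊓ K, y ∉ C → y⁻¹ * a ∈ C := by
    intro y hy hyC
    obtain ⟨n, hnK, hnN, hn⟩ := Fus.Gold.exists_transitive h hK s.A_le hm ha haC hy hyC
    set w := n * a * n⁻¹ with hw
    have hwK : w ∈ K := K.mul_mem (K.mul_mem hnK ha.2) (K.inv_mem hnK)
    have hwS : w ∈ (s.S : Subgroup G) := ((mem_normalizer_iff.1 hnN a).1 ⟨s.A_le ha.1, ha.2⟩).1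
    have hcS : c ∈ (s.S : Subgroup G) := mul_mem (mul_mem ht (s.A_le ha.1)) (inv_mem ht)
    have hz1 : c * a⁻¹ ∈ s.Z := s.comm_mem_Z ht ha.1
    have e1 : n * (c * a⁻¹) * n⁻¹ = c * w⁻¹ := by
      calc n * (c * a⁻¹) * n⁻¹ = (n * c) * (a⁻¹ * n⁻¹) := by group
        _ = (c * n) * (a⁻¹ * n⁻¹) := by rw [mem_centralizer_iff.1 hcC n hnK]
        _ = _ := by rw [hw]; group
    have hz2 : c * w⁻¹ ∈ s.Z := e1 ▸ s.Z_closed hA hB hz1 (e1 ▸ mul_mem hcS (inv_mem hwS))
    have hd : a * w⁻¹ ∈ C := hZK _ (by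
      rw [show a * w⁻¹ = (c * a⁻¹)⁻¹ * (c * w⁻¹) by group]
      exact mul_mem (inv_mem hz1) hz2) (K.mul_mem ha.2 (K.inv_mem hwK))
    have e2 : y⁻¹ * a = a * w⁻¹ * (y⁻¹ * w) := by
      calc y⁻¹ * a = y⁻¹ * (a * w⁻¹) * w := by group
        _ = a * w⁻¹ * y⁻¹ * w := by rw [mem_centralizer_iff.1 hd _ (K.inv_mem hy.2)]
        _ = _ := by group
    rw [e2]
    exact mul_mem hd hn
  let f : Bool → ↥(Fus.Gold.kbar s.A K) := fun b => cond b 1 ⟨_, Fus.Gold.mem_kbar ha.1 ha.2⟩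
  have hf : Function.Surjective f := by
    rintro ⟨_, ⟨k, hkK⟩, hk, rfl⟩
    by_cases hkC : k ∈ C
    · exact ⟨true, Subtype.ext ((Fus.Gold.mk_eq_one hK).2 hkC).symm⟩
    · refine ⟨false, Subtype.ext (QuotientGroup.eq.2 ?_)⟩
      refine mem_center_iff.2 fun w => Subtype.ext ?_
      have h1 := inv_mem (key k (mem_subgroupOf.1 hk) hkC)
      rw [show (k⁻¹ * a)⁻¹ = a⁻¹ * k by group] at h1
      exact mem_centralizer_iff.1 h1 w w.2
  have h2 := Nat.card_le_card_of_surjective f hf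
  rw [Nat.card_eq_fintype_card (α := Bool), Fintype.card_bool] at h2
  have := Fus.Gold.four_le_kbar h hK hm
  omega

/-- With a central involution in `Z` and no core, `A` is normal. -/
theorem normal_of_central {z0 : G} (hz0 : z0 ∈ s.Z) (hz1 : z0 ≠ 1) (hc : ∀ g : G, g * z0 = z0 * g)
    (hO : Cfsg.oddCore G = ⊥) : s.A.Normal := by
  classical
  haveI : Fact (Nat.Prime 2) := ⟨Nat.prime_two⟩
  have hA : s.Pres := s.pres_of_fixed hz0 hz1 fun g _ => by rw [hc g, mul_inv_cancel_right]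
  have hB : s.mirror.Pres := s.mirror.pres_of_fixed (s.mirror_Z.symm ▸ hz0) hz1 fun g _ => by
    rw [hc g, mul_inv_cancel_right]
  have h := s.localHyp (s.closed_of_pres_mirror hB) hO
  by_cases hno : Fus.Gold.movedComps s.A = ∅
  · have h1 := Fus.Gold.local_closure h
    rw [hno, sSup_empty, sup_bot_eq] at h1
    exact ⟨fun a ha g => by
      have := h1 (commutator_mem_commutator (mem_top g) ha)
      rw [commutatorElement_def] at this
      simpa using mul_mem this ha⟩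
  exfalso
  obtain ⟨K, hK, hKm⟩ := Set.nonempty_iff_ne_empty.2 hno
  have hm : ¬ s.A ≤ centralizer (K : Set G) := fun e => hKm (Subgroup.le_centralizer_iff.1 e)
  set C := centralizer (K : Set G)
  have hSK := s.S_le_normalizer_comp h hA hB hK hm
  have hsup := Fus.Gold.local_sup h hK
  -- `S` sweeps out cosets of `Z`
  have hsweepC : ∀ a ∈ s.A, a ∉ s.B → a ∈ C → ∀ z ∈ s.Z, z ∈ C := by
    intro a ha haB haC z hz
    obtain ⟨g, hg, e⟩ := s.exists_conj_coset ha haB hz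
    have := mul_mem (inv_mem haC) (e ▸ Fus.Gold.conj_mem_centralizer (hSK hg) haC : a * z ∈ C)
    rwa [inv_mul_cancel_left] at this
  have hsweepK : ∀ a ∈ s.A, a ∉ s.B → a ∈ K → ∀ z ∈ s.Z, z ∈ K := by
    intro a ha haB haK z hz
    obtain ⟨g, hg, e⟩ := s.exists_conj_coset ha haB hz
    have := mul_mem (inv_mem haK) (e ▸ mem_conj_normalizer (hSK hg) haK : a * z ∈ K)
    rwa [inv_mul_cancel_left] at this
  obtain ⟨a, ha, haK, haB⟩ : ∃ a ∈ s.A, a ∈ K ∧ a ∉ s.B := by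
    by_contra hall
    push Not at hall
    by_cases hC : ∃ a ∈ s.A, a ∈ C ∧ a ∉ s.B
    · obtain ⟨a, ha, haC, haB⟩ := hC
      exact Fus.Gold.not_le_of_moved h hK hm fun w hw => hsweepC a ha haB haC w ⟨hw.1, hall w hw.1 hw.2⟩
    · push Not at hC
      have hle : s.A ≤ s.B := hsup.ge.trans (sup_le (fun w hw => hC w hw.1 hw.2) fun w hw => hall w hw.1 hw.2)
      exact one_ne_zero (s.e_mem_B.1 (hle (s.e_mem_A.2 rfl : s.e 1 0 0 ∈ s.A)) : (1 : F) = 0)
  have hZK : ∀ z ∈ s.Z, z ∈ K := hsweepK a ha haB haK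
  obtain ⟨P, hP, -, -, -, -, hinvK, -, -⟩ := Fus.Gold.exists_data h hK s.A_le hm
  have hsq : ∀ r ∈ (s.S : Subgroup G), r ∈ K → r * r ∈ C → r ∈ s.A := by
    intro r hr hrK hr2
    obtain ⟨⟨a', ha'K⟩, ha', e⟩ := hinvK _ ((hP ⟨r, hrK⟩).2 hr) (by
      rw [← QuotientGroup.mk_mul]; exact (Fus.Gold.mk_eq_one hK).2 hr2)
    have hc' : a'⁻¹ * r ∈ C := by
      have := QuotientGroup.eq.1 e
      exact mem_centralizer_iff.2 fun k hk => congrArg Subtype.val (mem_center_iff.1 this ⟨k, hk⟩)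
    refine s.mem_A_of_comm hr ha haB ?_
    have h1 : Commute (a'⁻¹ * r) a := (mem_centralizer_iff.1 hc' _ haK).symm
    have h2 : Commute a' a := s.A_comm (mem_subgroupOf.1 ha').1 ha
    have := h2.mul_left h1
    rwa [mul_inv_cancel_left] at this
  have hSKA : ∀ r ∈ (s.S : Subgroup G), r ∈ K → r ∈ s.A := by
    intro r hr hrK
    by_cases hC : ∃ w ∈ s.A, w ∈ C ∧ w ∉ s.B
    · obtain ⟨w, hw, hwC, hwB⟩ := hC
      obtain ⟨x, y, z, rfl⟩ := (s.mem_iff r).1 hr
      refine hsq _ hr hrK (hsweepC w hw hwB hwC _ ?_)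
      rw [s.e_sq]; exact s.mem_Z.2 ⟨_, rfl⟩
    · push Not at hC
      have hAK : s.A ≤ K := hsup.ge.trans (sup_le (fun w hw => hZK w ⟨hw.1, hC w hw.1 hw.2⟩) inf_le_right)
      obtain ⟨x, y, z, rfl⟩ := (s.mem_iff r).1 hr
      have hb : s.e 0 y (z + x * y) ∈ K := by
        have := K.mul_mem (hAK (s.e_mem_A.2 rfl : s.e x 0 0 ∈ s.A)) hrK
        rwa [s.e_mul, addSelf, zero_add, zero_add] at this
      have := hsq _ (s.e_mem _ _ _) hb (by rw [s.e_sq, zero_mul, s.e_one]; exact one_mem _)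
      rw [s.e_mem_A] at this ⊢
      exact this
  have hsylK : (s.S : Subgroup G).subgroupOf K = s.A.subgroupOf K := by
    ext ⟨r, hrK⟩
    simp only [mem_subgroupOf]
    exact ⟨fun hr => hSKA r hr hrK, fun hr => s.A_le hr⟩
  have hodd : ¬ 2 ∣ (s.A.subgroupOf K).index := by
    rw [← hsylK]
    exact Grp.not_dvd_relIndex_sylow s.S hK.1
  set PK : Sylow 2 ↥K := (s.A_pGroup.comap_of_injective K.subtype K.subtype_injective).toSylow hodd
  exact hz1 (congrArg Subtype.val (Fus.Gold.eq_one_of_abelian_sylow (z := (⟨z0, hZK z0 hz0⟩ : ↥K)) hK.2.1.1 PK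
    (fun p hp q hq => Subtype.ext (s.A_comm (mem_subgroupOf.1 hp) (mem_subgroupOf.1 hq)))
    (mem_subgroupOf.2 (s.Z_le_A hz0))
    (mem_center_iff.2 fun k => Subtype.ext (hc k))))

/-- A normal `A` is its own centraliser if `O(G) = 1`. -/
theorem centralizer_eq (hA : s.A.Normal) (hO : Cfsg.oddCore G = ⊥) {g : G} (hg : ∀ a ∈ s.A, g * a = a * g) :
    g ∈ s.A := by
  haveI : Fact (Nat.Prime 2) := ⟨Nat.prime_two⟩
  haveI := hA
  set C := centralizer (s.A : Set G)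
  have hgC : g ∈ C := mem_centralizer_iff.2 fun a ha => (hg a ha).symm
  haveI : C.Normal := inferInstance
  have hAC : s.A ≤ C := fun a ha => mem_centralizer_iff.2 fun b hb => s.A_comm hb ha
  have hp : IsPGroup 2 (s.A.subgroupOf C) := s.A_pGroup.comap_of_injective C.subtype C.subtype_injective
  obtain ⟨P, hP⟩ := hp.exists_le_sylow
  have hPA : (P : Subgroup ↥C) = s.A.subgroupOf C := by
    refine le_antisymm (fun x hx => mem_subgroupOf.2 ?_) hP
    refine s.le_A_of_centralizes (U := (P : Subgroup ↥C).map C.subtype) (P.isPGroup'.map _)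
      (fun a ha => ⟨⟨a, hAC ha⟩, hP (mem_subgroupOf.2 ha), rfl⟩) ?_ ⟨x, hx, rfl⟩
    rintro _ ⟨y, -, rfl⟩ a ha
    exact (mem_centralizer_iff.1 y.2 a ha).symm
  set N := s.A.subgroupOf C
  haveI : N.Normal := ⟨fun x hx y => mem_subgroupOf.2 (hA.conj_mem _ (mem_subgroupOf.1 hx) _)⟩
  have hodd : Odd N.index := by
    rw [← hPA, ← Nat.not_even_iff_odd, even_iff_two_dvd]
    exact P.not_dvd_index
  obtain ⟨k, hk⟩ := IsPGroup.iff_card.1 hp
  obtain ⟨H, hH⟩ := exists_right_complement'_of_coprime (N := N)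
    (hk ▸ Nat.Coprime.pow_left k (Nat.coprime_two_left.2 hodd))
  have hHodd : Odd (Nat.card H) := by rw [← hH.symm.index_eq_card]; exact hodd
  set W := H.map C.subtype
  have hWn : W.Normal := by
    refine ⟨fun w hw k => ?_⟩
    obtain ⟨⟨x, hxC⟩, hx, rfl⟩ := hw
    obtain ⟨⟨⟨⟨a, haC⟩, ha⟩, ⟨b, hbC⟩, hb⟩, e⟩ := hH.2 ⟨k * x * k⁻¹, Normal.conj_mem inferInstance x hxC k⟩
    have e' : a * b = k * x * k⁻¹ := congrArg Subtype.val e
    have haA : a ∈ s.A := mem_subgroupOf.1 ha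
    have hpow : ∀ (y : G) (hy : y ∈ C), (⟨y, hy⟩ : ↥C) ∈ H → y ^ Nat.card H = 1 := fun y hy hyH => by
      have := congrArg (fun t : ↥H => ((t : ↥C) : G)) (pow_card_eq_one' (x := (⟨⟨y, hy⟩, hyH⟩ : ↥H)))
      exact this
    have h1 : (a * b) ^ Nat.card H = 1 := by rw [e', conj_pow, hpow x hxC hx]; group
    rw [(show Commute a b from mem_centralizer_iff.1 hbC a haA).mul_pow, hpow b hbC hb, mul_one] at h1
    obtain ⟨j, hj⟩ := hHodd
    rw [hj, pow_succ, pow_mul, pow_two, s.A_sq haA, one_pow, one_mul] at h1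
    rw [h1, one_mul] at e'
    exact ⟨⟨b, hbC⟩, hb, e'⟩
  have hW : W = ⊥ := le_bot_iff.1 (hO ▸ Grp.le_pPrimeCore hWn (by
    rw [card_map_of_injective C.subtype_injective]
    exact Nat.coprime_two_right.2 hHodd))
  obtain ⟨⟨⟨a, ha⟩, b, hb⟩, e⟩ := hH.2 ⟨g, hgC⟩
  have hb1 : (b : G) = 1 := mem_bot.1 (hW ▸ ⟨b, hb, rfl⟩ : (b : G) ∈ (⊥ : Subgroup G))
  have e' : ((a : ↥C) : G) * (b : G) = g := congrArg Subtype.val e
  rw [hb1, mul_one] at e'
  exact e' ▸ mem_subgroupOf.1 ha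

end Shape

end Cfsg.Agent.Invol.IsolatedSfour.LType
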