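import Cfsg.Agent.Lib.Invol.IsolatedSfour.LType.Closed
import Cfsg.Agent.Lib.Invol.StrongClosed.Balance
import Cfsg.Agent.Lib.Grp.PComponents
import Cfsg.Agent.Lib.Fus.CharTwo
import Cfsg.Agent.S1291

/-!
# Cores of involution centralisers and characteristic 2 type

Modulo its core the centraliser of `z ∈ Z` has a normal Sylow 2-subgroup, so `G` is balanced; by the signalizer
functor theorem the cores are trivial and `C(z) ≤ N(S)`.
-/

set_option autoImplicit false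
set_option linter.unusedSectionVars false
set_option linter.style.haveILetI false

namespace Cfsg.Agent.Invol.IsolatedSfour.LType

open Subgroup Cfsg.Agent.Grp Cfsg.Agent.Block.KBalance

universe u

variable {G : Type u} [Group G] [Finite G] {F : Type} [Field F] [Fintype F] [CharP F 2] (s : Shape G F)

namespace Shape

theorem S_le_centralizer {z : G} (hz : z ∈ s.Z) : (s.S : Subgroup G) ≤ centralizer ({z} : Set G) := fun _ hg =>
  mem_centralizer_singleton_iff.2 (s.Z_central hg hz)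

/-- The central quotient of `C(z)`. -/
theorem exists_quot {z : G} (hzZ : z ∈ s.Z) (hz1 : z ≠ 1) :
    ∃ (Q : Type u) (_ : Group Q) (_ : Finite Q) (π : ↥(centralizer ({z} : Set G)) →* Q)
    (sQ : Shape Q F), Cfsg.oddCore Q = ⊥ ∧ (∃ w ∈ sQ.Z, w ≠ 1 ∧ ∀ g : Q, g * w = w * g) ∧
      π.ker = Cfsg.pPrimeCore 2 ↥(centralizer ({z} : Set G)) ∧
      sQ.A = (s.A.subgroupOf (centralizer ({z} : Set G))).map π := by
  haveI : Fact (Nat.Prime 2) := ⟨Nat.prime_two⟩
  set C := centralizer ({z} : Set G)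
  haveI : (Cfsg.pPrimeCore 2 ↥C).Normal := pPrimeCore_isNormal
  let π := QuotientGroup.mk' (Cfsg.pPrimeCore 2 ↥C)
  have hsur : Function.Surjective π := QuotientGroup.mk'_surjective _
  have hodd : Odd (Nat.card π.ker) := by
    rw [QuotientGroup.ker_mk']
    exact Nat.coprime_two_right.1 pPrimeCore_coprime
  let sQ := (s.restrict C (s.S_le_centralizer hzZ)).map π hsur hodd
  obtain ⟨c, hc⟩ := s.mem_Z.1 hzZ
  refine ⟨↥C ⧸ Cfsg.pPrimeCore 2 ↥C, inferInstance, inferInstance, π,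
    sQ, Grp.pPrimeCore_quotient_bot, ⟨sQ.e 0 0 c, sQ.mem_Z.2 ⟨c, rfl⟩, fun e => hz1 ?_, fun g => ?_⟩,
    QuotientGroup.ker_mk' _, ?_⟩
  · rw [← hc, (sQ.e_eq_one.1 e).2.2, s.e_one]
  · obtain ⟨g, rfl⟩ := hsur g
    show π g * π _ = π _ * π g
    rw [← map_mul, ← map_mul]
    refine congrArg π (Subtype.ext ?_)
    show (g : G) * s.e 0 0 c = s.e 0 0 c * g
    rw [hc]
    exact mem_centralizer_singleton_iff.1 g.2
  · rw [map_A, restrict_A]

/-- A subgroup of odd order of `C(z)` normalised by `A` is in the core. -/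
theorem le_core_z {z : G} (hzZ : z ∈ s.Z) (hz1 : z ≠ 1) {D : Subgroup G} (hD : D ≤ centralizer ({z} : Set G)) (hodd : Odd (Nat.card D))
    (hn : ∀ a ∈ s.A, ∀ d ∈ D, a * d * a⁻¹ ∈ D) : D ≤ Cfsg.centralizerPPrimeCore 2 z := by
  set C := centralizer ({z} : Set G)
  obtain ⟨Q, _, _, π, sQ, hO, ⟨w, hw, hw1, hz⟩, hker, hQA⟩ := s.exists_quot hzZ hz1
  haveI := sQ.normal_of_central hw hw1 hz hO
  have hAC : s.A ≤ C := s.A_le.trans (s.S_le_centralizer hzZ)
  intro d hd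
  have hordd : ∀ (y : G) (hy : y ∈ D), Odd (orderOf (π ⟨y, hD hy⟩)) := fun y hy =>
    hodd.of_dvd_nat ((orderOf_map_dvd π _).trans (by
      rw [← Subgroup.orderOf_coe]
      exact Subgroup.orderOf_coe (⟨y, hy⟩ : ↥D) ▸ orderOf_dvd_natCard (⟨y, hy⟩ : ↥D)))
  have hone : ∀ y : Q, y ∈ sQ.A → Odd (orderOf y) → y = 1 := fun y hy ho => by
    refine orderOf_eq_one_iff.1 ?_
    have h2 := orderOf_dvd_of_pow_eq_one (show y ^ 2 = 1 by rw [pow_two]; exact sQ.A_sq hy)
    rcases (Nat.dvd_prime Nat.prime_two).1 h2 with h | h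
    · exact h
    · rw [h] at ho; exact absurd ho (by decide)
  have hdA : π ⟨d, hD hd⟩ ∈ sQ.A := by
    refine sQ.centralizer_eq inferInstance hO fun a ha => ?_
    rw [hQA] at ha
    obtain ⟨⟨b, hbC⟩, hb, rfl⟩ := ha
    have hbA : b ∈ s.A := mem_subgroupOf.1 hb
    set c : G := d * (b * d⁻¹ * b⁻¹)
    have hcD : c ∈ D := D.mul_mem hd (hn b hbA _ (D.inv_mem hd))
    have e : π ⟨c, hD hcD⟩ = π ⟨d, hD hd⟩ * π ⟨b, hbC⟩ * (π ⟨d, hD hd⟩)⁻¹ * (π ⟨b, hbC⟩)⁻¹ := by
      rw [← map_inv, ← map_inv, ← map_mul, ← map_mul, ← map_mul]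
      exact congrArg π (Subtype.ext (by simp [c, mul_assoc]))
    have hπb : π ⟨b, hbC⟩ ∈ sQ.A := hQA ▸ ⟨_, hb, rfl⟩
    have h1 := hone _ (by
      rw [e]; exact sQ.A.mul_mem (Normal.conj_mem inferInstance _ hπb _) (sQ.A.inv_mem hπb)) (hordd c hcD)
    rw [e] at h1
    exact mul_inv_eq_iff_eq_mul.1 (mul_inv_eq_one.1 h1)
  have h1 := hone _ hdA (hordd d hd)
  rw [← MonoidHom.mem_ker, hker] at h1
  exact ⟨_, h1, rfl⟩

theorem le_core (hA : ¬ s.Pres) {a : G} (ha : a ∈ s.A) (ha1 : a ≠ 1) {D : Subgroup G}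
    (hD : D ≤ centralizer ({a} : Set G)) (hodd : Odd (Nat.card D))
    (hn : ∀ b ∈ s.A, ∀ d ∈ D, b * d * b⁻¹ ∈ D) : D ≤ Cfsg.centralizerPPrimeCore 2 a := by
  haveI : Fact (Nat.Prime 2) := ⟨Nat.prime_two⟩
  obtain ⟨z, hz, hz1⟩ := s.exists_ne_Z
  obtain ⟨n, hnN, rfl⟩ := s.transitive hA (s.Z_le_A hz) ha hz1 ha1
  intro d hd
  have h := s.le_core_z hz hz1 (D := D.map (MulAut.conj n⁻¹).toMonoidHom) ?_ ?_ ?_ ⟨d, hd, rfl⟩
  · have h2 := Invol.StrongClosed.centralizerPPrimeCore_conj_mem (n := n) h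
    simpa [mul_assoc] using h2
  · rintro _ ⟨y, hy, rfl⟩
    refine mem_centralizer_singleton_iff.2 ?_
    have := mem_centralizer_singleton_iff.1 (hD hy)
    show n⁻¹ * y * n⁻¹⁻¹ * z = z * (n⁻¹ * y * n⁻¹⁻¹)
    rw [inv_inv]
    calc n⁻¹ * y * n * z = n⁻¹ * (y * (n * z * n⁻¹)) * n := by group
      _ = n⁻¹ * (n * z * n⁻¹ * y) * n := by rw [this]
      _ = _ := by group
  · rwa [card_map_of_injective (MulAut.conj _).injective]
  · rintro b hb _ ⟨y, hy, rfl⟩
    refine ⟨n * b * n⁻¹ * y * (n * b * n⁻¹)⁻¹, hn _ (mem_conj_normalizer hnN hb) y hy, ?_⟩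
    simp [mul_assoc]

theorem isBalanced (hA : ¬ s.Pres) (hB : ¬ s.mirror.Pres) : Cfsg.IsBalanced G := by
  haveI : Fact (Nat.Prime 2) := ⟨Nat.prime_two⟩
  suffices key : ∀ x y : G, orderOf x = 2 → orderOf y = 2 → x * y = y * x →
      Cfsg.centralizerPPrimeCore 2 x ⊓ centralizer {y} ≤ Cfsg.centralizerPPrimeCore 2 y by
    intro x y hx hy hxy
    exact le_antisymm (le_inf (key x y hx hy hxy) fun d hd => mem_centralizer_singleton_iff.2
        (centralizerPPrimeCore_commute hd.1))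
      (le_inf (key y x hy hx hxy.symm) fun d hd => mem_centralizer_singleton_iff.2
        (centralizerPPrimeCore_commute hd.1))
  intro x y hx hy hxy
  have hsq : ∀ t : G, orderOf t = 2 → t * t = 1 := fun t ht => by rw [← pow_two, ← ht]; exact pow_orderOf_eq_one t
  have hp : ∀ t : G, orderOf t = 2 → IsPGroup 2 (zpowers t) := fun t ht w => by
    obtain ⟨i, hi⟩ := w.2
    refine ⟨1, Subtype.ext ?_⟩
    rw [pow_one, SubmonoidClass.coe_pow, ← hi, pow_two, ← (Commute.refl t).mul_zpow, hsq t ht, one_zpow]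
    rfl
  have hnorm : zpowers x ≤ normalizer ((zpowers y : Subgroup G) : Set G) := by
    refine zpowers_le.2 (centralizer_le_normalizer _ (mem_centralizer_iff.2 ?_))
    rintro _ ⟨i, rfl⟩
    exact (((show Commute x y from hxy).zpow_right i).eq).symm
  obtain ⟨h, hh⟩ := s.exists_conj_S (IsPGroup.to_sup_of_normal_right' (hp x hx) (hp y hy) hnorm)
  set x' := h * x * h⁻¹ with hx'
  set y' := h * y * h⁻¹ with hy'
  have hx'o : orderOf x' = 2 := by rw [hx', ← hx]; exact (MulAut.conj h).orderOf_eq x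
  have hy'o : orderOf y' = 2 := by rw [hy', ← hy]; exact (MulAut.conj h).orderOf_eq y
  have hx'S := hh x (mem_sup_left (mem_zpowers x))
  have hy'S := hh y (mem_sup_right (mem_zpowers y))
  have hxy' : x' * y' = y' * x' := by
    rw [hx', hy', show h * x * h⁻¹ * (h * y * h⁻¹) = h * (x * y) * h⁻¹ by group, hxy]; group
  -- a radical containing both
  obtain ⟨r, hr, hxr, hyr⟩ : ∃ r : Shape G F, ¬ r.Pres ∧ x' ∈ r.A ∧ y' ∈ r.A := by
    by_cases h1 : x' ∈ s.A ∧ y' ∈ s.A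
    · exact ⟨s, hA, h1⟩
    refine ⟨s.mirror, hB, ?_⟩
    rw [s.mirror_A]
    have hx2 := s.mem_A_or_B hx'S (hsq _ hx'o)
    have hy2 := s.mem_A_or_B hy'S (hsq _ hy'o)
    refine ⟨?_, ?_⟩
    · by_contra hxB
      have hxA := hx2.resolve_right hxB
      exact h1 ⟨hxA, s.mem_A_of_comm hy'S hxA hxB hxy'.symm⟩
    · by_contra hyB
      have hyA := hy2.resolve_right hyB
      exact h1 ⟨s.mem_A_of_comm hx'S hyA hyB hxy', hyA⟩
  have hy1 : y' ≠ 1 := fun e => by rw [e, orderOf_one] at hy'o; omega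
  have key : Cfsg.centralizerPPrimeCore 2 x' ⊓ centralizer {y'} ≤ Cfsg.centralizerPPrimeCore 2 y' := by
    refine r.le_core hr hyr hy1 inf_le_right ?_ ?_
    · exact Nat.coprime_two_right.1 ((centralizerPPrimeCore_coprime x').coprime_dvd_left
        (Subgroup.card_dvd_of_le inf_le_left))
    · intro b hb d hd
      have hbx : b * x' = x' * b := r.A_comm hb hxr
      refine ⟨centralizerPPrimeCore_conj hbx hd.1, ?_⟩
      have hb' : b ∈ centralizer ({y'} : Set G) := mem_centralizer_singleton_iff.2 (r.A_comm hb hyr)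
      exact Subgroup.mul_mem _ (Subgroup.mul_mem _ hb' hd.2) (Subgroup.inv_mem _ hb')
  intro d hd
  have h1 : h * d * h⁻¹ ∈ Cfsg.centralizerPPrimeCore 2 x' ⊓ centralizer {y'} := by
    refine ⟨Invol.StrongClosed.centralizerPPrimeCore_conj_mem hd.1, mem_centralizer_singleton_iff.2 ?_⟩
    rw [hy', show h * d * h⁻¹ * (h * y * h⁻¹) = h * (d * y) * h⁻¹ by group, mem_centralizer_singleton_iff.1 hd.2]
    group
  have h2 := Invol.StrongClosed.centralizerPPrimeCore_conj_mem (n := h⁻¹) (key h1)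
  simpa [hy', mul_assoc] using h2

theorem isFourConnected : Cfsg.IsFourConnected ↥(s.S : Subgroup G) := by
  haveI : Fact (Nat.Prime 2) := ⟨Nat.prime_two⟩
  set T := (s.S : Subgroup G)
  intro U V hU hV
  have hZT : s.Z ≤ T := s.Z_le_A.trans s.A_le
  obtain ⟨Z4, hZ4, hZ4c⟩ : ∃ Z4 : Subgroup ↥T, Z4 ≤ s.Z.subgroupOf T ∧ Nat.card ↥Z4 = 4 := by
    have hd : 2 ^ 2 ∣ Nat.card ↥(s.Z.subgroupOf T) := by
      rw [Nat.card_congr (subgroupOfEquivOfLe hZT).toEquiv, s.card_Z]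
      obtain ⟨n, -, hn⟩ := FiniteField.card F 2
      have := s.hq
      rw [hn]
      refine pow_dvd_pow 2 ?_
      by_contra hlt
      have := Nat.pow_le_pow_right (n := 2) two_pos (show (n : ℕ) ≤ 1 by omega)
      omega
    obtain ⟨K, hK⟩ := Sylow.exists_subgroup_card_pow_prime 2 hd
    exact ⟨K.map (s.Z.subgroupOf T).subtype, map_subtype_le _,
      (card_map_of_injective (s.Z.subgroupOf T).subtype_injective).trans hK⟩
  have hsq : ∀ W : Subgroup ↥T, IsKleinFour W → ∀ w ∈ W.map T.subtype, w * w = 1 := by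
    rintro W hW _ ⟨w, hw, rfl⟩
    haveI := hW
    have := IsKleinFour.mul_self (⟨w, hw⟩ : ↥W)
    exact congrArg (fun k : ↥W => ((k : ↥T) : G)) this
  have hcomm : ∀ W : Subgroup ↥T, IsKleinFour W → ∀ a ∈ W, ∀ b ∈ Z4, a * b = b * a := fun W _ a _ b hb =>
    Subtype.ext (s.Z_central a.2 (mem_subgroupOf.1 (hZ4 hb)))
  have hZ : IsKleinFour Z4 := by
    refine ⟨hZ4c, ?_⟩
    have hsq' : ∀ w : ↥Z4, w ^ 2 = 1 := fun w => by
      refine Subtype.ext (Subtype.ext ?_)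
      rw [pow_two]
      exact s.A_sq (s.Z_le_A (mem_subgroupOf.1 (hZ4 w.2)))
    rcases (Nat.dvd_prime Nat.prime_two).1 (Monoid.exponent_dvd_of_forall_pow_eq_one hsq') with h | h
    · exfalso
      haveI := Monoid.exp_eq_one_iff.1 h
      rw [Nat.card_eq_one_iff_unique.2 ⟨inferInstance, ⟨1⟩⟩] at hZ4c
      omega
    · exact h
  exact (Relation.ReflTransGen.single ⟨hU, hZ, hcomm U hU⟩).tail
    ⟨hZ, hV, fun a ha b hb => (hcomm V hV b hb a ha).symm⟩

/-- The centraliser of an involution has no core. -/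
theorem core_eq_bot (hA : ¬ s.Pres) (hB : ¬ s.mirror.Pres) (hO : Cfsg.oddCore G = ⊥) {t : G} (ht : orderOf t = 2) :
    Cfsg.centralizerPPrimeCore 2 t = ⊥ :=
  S1291.result (s.isBalanced hA hB) hO
    (fun h => by
      have := h s.A s.A_elem.1 s.A_elem.2
      rw [s.card_A] at this
      have := Nat.mul_le_mul s.hq s.hq
      norm_num at *
      omega)
    (.inr ⟨s.S, s.isFourConnected⟩) t ht

/-- The centraliser of an involution of `Z` normalizes `A`, `B` and `S`; what centralizes `A` there is in `A`. -/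
theorem centralizer_Z (hA : ¬ s.Pres) (hB : ¬ s.mirror.Pres) (hO : Cfsg.oddCore G = ⊥) {z : G} (hz : z ∈ s.Z)
    (hz1 : z ≠ 1) {c : G} (hc : c * z = z * c) :
    c ∈ normalizer ((s.S : Subgroup G) : Set G) ∧ ((∀ a ∈ s.A, c * a = a * c) → c ∈ s.A) := by
  set C := centralizer ({z} : Set G)
  set r := s.restrict C (s.S_le_centralizer hz)
  have hzo : orderOf z = 2 := orderOf_eq_prime (by rw [pow_two]; exact s.A_sq (s.Z_le_A hz)) hz1
  have hC : Cfsg.oddCore ↥C = ⊥ :=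
    (map_eq_bot_iff_of_injective _ C.subtype_injective).1 (s.core_eq_bot hA hB hO hzo)
  obtain ⟨t, ht⟩ := s.mem_Z.1 hz
  have hzC : z ∈ C := mem_centralizer_singleton_iff.2 rfl
  have hzr : (⟨z, hzC⟩ : ↥C) ∈ r.Z := r.mem_Z.2 ⟨t, Subtype.ext ht⟩
  have hz1' : (⟨z, hzC⟩ : ↥C) ≠ 1 := fun e => hz1 (congrArg Subtype.val e)
  have hcen : ∀ g : ↥C, g * ⟨z, hzC⟩ = ⟨z, hzC⟩ * g := fun g => Subtype.ext (mem_centralizer_singleton_iff.1 g.2)
  haveI hnA := r.normal_of_central hzr hz1' hcen hC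
  haveI hnB : r.B.Normal := r.mirror_A ▸ r.mirror.normal_of_central (r.mirror_Z.symm ▸ hzr) hz1' hcen hC
  have hnS : (r.S : Subgroup ↥C).Normal := r.A_sup_B ▸ Subgroup.sup_normal _ _
  have hcC : c ∈ C := mem_centralizer_singleton_iff.2 hc
  refine ⟨mem_normalizer_fintype fun x hx => ?_, fun hca => ?_⟩
  · have h1 := hnS.conj_mem (⟨x, s.S_le_centralizer hz hx⟩ : ↥C) (mem_subgroupOf.2 hx) ⟨c, hcC⟩
    exact mem_subgroupOf.1 h1
  · have h1 := r.centralizer_eq hnA hC (g := ⟨c, hcC⟩) fun a ha => Subtype.ext (hca _ (by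
      rw [s.restrict_A] at ha; exact mem_subgroupOf.1 ha))
    rw [s.restrict_A] at h1
    exact mem_subgroupOf.1 h1

/-- `A` is self-centralising. -/
theorem centralizer_A (hA : ¬ s.Pres) (hB : ¬ s.mirror.Pres) (hO : Cfsg.oddCore G = ⊥) {c : G}
    (hc : ∀ a ∈ s.A, c * a = a * c) : c ∈ s.A := by
  obtain ⟨z, hz, hz1⟩ := s.exists_ne_Z
  exact (s.centralizer_Z hA hB hO hz hz1 (hc z (s.Z_le_A hz))).2 hc

/-- All involutions are conjugate into `Z`. -/
theorem exists_conj_Z (hA : ¬ s.Pres) (hB : ¬ s.mirror.Pres) {t : G} (ht : orderOf t = 2) {z : G} (hz : z ∈ s.Z)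
    (hz1 : z ≠ 1) : ∃ g : G, g * t * g⁻¹ = z := by
  have hsq : t * t = 1 := by rw [← pow_two, ← ht]; exact pow_orderOf_eq_one t
  have ht1 : t ≠ 1 := fun e => by rw [e, orderOf_one] at ht; omega
  have hp : IsPGroup 2 ↥(zpowers t) := IsPGroup.of_card (n := 1) (by rw [Nat.card_zpowers, ht, pow_one])
  obtain ⟨h, hh⟩ := s.exists_conj_S hp
  have hS := hh t (mem_zpowers t)
  have h1 : h * t * h⁻¹ ≠ 1 := fun e => ht1 (conj_eq_one_iff.1 e)
  rcases s.mem_A_or_B hS (by rw [show h * t * h⁻¹ * (h * t * h⁻¹) = h * (t * t) * h⁻¹ by group, hsq]; group) with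
    h2 | h2
  · obtain ⟨n, -, e⟩ := s.transitive hA h2 (s.Z_le_A hz) h1 hz1
    exact ⟨n * h, by rw [← e]; group⟩
  · rw [← s.mirror_A] at h2
    obtain ⟨n, -, e⟩ := s.mirror.transitive hB h2 (s.mirror_A.symm ▸ s.Z_le_B hz) h1 hz1
    exact ⟨n * h, by rw [← e]; group⟩

/-- `G` has characteristic 2 type. -/
theorem charTwoType (hA : ¬ s.Pres) (hB : ¬ s.mirror.Pres) (hO : Cfsg.oddCore G = ⊥) :
    Cfsg.IsCharacteristicTwoType G := by
  haveI : Fact (Nat.Prime 2) := ⟨Nat.prime_two⟩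
  obtain ⟨z, hz, hz1⟩ := s.exists_ne_Z
  refine Fus.isCharacteristicTwoType_of_centralizers ?_ fun t ht => ?_
  · refine even_iff_two_dvd.2 ?_
    have := orderOf_dvd_natCard z
    rwa [orderOf_eq_prime (by rw [pow_two]; exact s.A_sq (s.Z_le_A hz)) hz1] at this
  obtain ⟨g, rfl⟩ := s.exists_conj_Z hA hB ht hz hz1
  set z := g * t * g⁻¹
  set D := centralizer ({z} : Set G)
  have hzD : Invol.CharP' 2 ↥D := by
    intro c hc
    have hSn : ((s.S : Subgroup G).subgroupOf D).Normal := ⟨fun x hx d => mem_subgroupOf.2 (by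
      have := (mem_normalizer_iff.1 (s.centralizer_Z hA hB hO hz hz1 (mem_centralizer_singleton_iff.1 d.2)).1
        (x : G)).1 (mem_subgroupOf.1 hx)
      simpa using this)⟩
    have hle : (s.S : Subgroup G).subgroupOf D ≤ Cfsg.pCore 2 ↥D :=
      Grp.le_pCore hSn (s.S.isPGroup'.comap_of_injective D.subtype D.subtype_injective)
    have hcA : (c : G) ∈ s.A := s.centralizer_A hA hB hO fun a ha => congrArg Subtype.val
      (mem_centralizer_iff.1 hc (⟨a, s.S_le_centralizer hz (s.A_le ha)⟩ : ↥D)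
        (hle (mem_subgroupOf.2 (s.A_le ha)))).symm
    exact hle (mem_subgroupOf.2 (s.A_le hcA))
  refine Invol.charP_of_mulEquiv ?_ hzD
  exact ((MulEquiv.subgroupMap (MulAut.conj g⁻¹) D).trans (MulEquiv.subgroupCongr (by
    ext x
    constructor
    · rintro ⟨y, hy, rfl⟩
      refine mem_centralizer_singleton_iff.2 ?_
      show g⁻¹ * y * g⁻¹⁻¹ * t = t * (g⁻¹ * y * g⁻¹⁻¹)
      have e : y * (g * t * g⁻¹) = g * t * g⁻¹ * y := mem_centralizer_singleton_iff.1 hy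
      calc g⁻¹ * y * g⁻¹⁻¹ * t = g⁻¹ * (y * (g * t * g⁻¹)) * g := by group
        _ = g⁻¹ * (g * t * g⁻¹ * y) * g := by rw [e]
        _ = _ := by group
    · intro hx
      refine ⟨g * x * g⁻¹, mem_centralizer_singleton_iff.2 ?_, ?_⟩
      · show g * x * g⁻¹ * (g * t * g⁻¹) = g * t * g⁻¹ * (g * x * g⁻¹)
        calc g * x * g⁻¹ * (g * t * g⁻¹) = g * (x * t) * g⁻¹ := by group
          _ = g * (t * x) * g⁻¹ := by rw [mem_centralizer_singleton_iff.1 hx]
          _ = _ := by group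
      · show g⁻¹ * (g * x * g⁻¹) * g⁻¹⁻¹ = x
        group)))

end Shape

end Cfsg.Agent.Invol.IsolatedSfour.LType
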