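import Cfsg.Agent.Lib.Invol.IsolatedSfour.LType.Auto
import Cfsg.Agent.S2798
import Cfsg.Agent.Lib.Fus.AbelianInvCentMain
import Cfsg.Agent.Lib.Invol.CentInt.CoverDerived
import Cfsg.Agent.Lib.Invol.CentRank.Models
import Cfsg.Agent.Lib.Invol.NaturalSL2
import Cfsg.Agent.Lib.Grp.Cores

/-!
# The 2-generated part of the automiser is `SL₂(q)`

By Bender's theorem, `O` centralising `U`, and the absence of proper covers of `SL₂(2ⁿ)` with kernel of odd order.
-/

set_option autoImplicit false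
set_option linter.unusedSectionVars false
set_option linter.style.haveILetI false

namespace Cfsg.Agent.Invol.IsolatedSfour.LType

open Subgroup Cfsg.Agent.Grp Matrix

universe u

local notation "SS(" F ")" => Matrix.SpecialLinearGroup (Fin 2) F

variable {G : Type u} [Group G] [Finite G] {F : Type} [Field F] [Fintype F] [CharP F 2] (s : Shape G F)

namespace Shape

/-- An element of 2-power order is conjugate into `U`. -/
theorem exists_conj_U {α : ↥s.X} {k : ℕ} (hα : α ^ 2 ^ k = 1) : ∃ g, g * α * g⁻¹ ∈ s.U := by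
  haveI : Fact (Nat.Prime 2) := ⟨Nat.prime_two⟩
  obtain ⟨P, hP, -⟩ := s.exists_sylow
  have hz : IsPGroup 2 ↥(zpowers α) := fun w => by
    obtain ⟨i, hi⟩ := w.2
    refine ⟨k, Subtype.ext ?_⟩
    rw [SubmonoidClass.coe_pow, ← hi]
    show (α ^ i) ^ (2 ^ k) = 1
    rw [← zpow_natCast, ← _root_.zpow_mul, mul_comm, _root_.zpow_mul, zpow_natCast, hα, _root_.one_zpow]
  obtain ⟨Q, hQ⟩ := hz.exists_le_sylow
  obtain ⟨g, hg⟩ := MulAction.exists_smul_eq ↥s.X Q P
  refine ⟨g, ?_⟩
  rw [← hP, ← hg, Sylow.coe_subgroup_smul, ← Grp.map_conj_eq_smul]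
  exact ⟨α, hQ (mem_zpowers α), rfl⟩

theorem U_le_closure : s.U ≤ Cfsg.pElementClosure 2 (⊤ : Subgroup ↥s.X) := fun α hα => by
  refine subset_closure ⟨mem_top α, ?_⟩
  obtain ⟨i, -, hi⟩ := (Nat.dvd_prime_pow Nat.prime_two).1
    (orderOf_dvd_of_pow_eq_one (show α ^ 2 ^ 1 = 1 by rw [pow_one, pow_two]; exact s.U_sq hα))
  exact ⟨i, hi⟩

theorem exists_linear (h : ¬ s.Pres) : ∃ ι : SS(F) →* ↥s.X, Function.Injective ι ∧
    ι.range = Cfsg.pElementClosure 2 (⊤ : Subgroup ↥s.X) ∧ ∀ α, α ∈ s.U ↔ ∃ t, ι (Grp.SL2.up t) = α := by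
  classical
  haveI : Fact (Nat.Prime 2) := ⟨Nat.prime_two⟩
  set O := Cfsg.pPrimeCore 2 ↥s.X with hOdef
  haveI hOn : O.Normal := Grp.pPrimeCore_isNormal
  have hOodd : Odd (Nat.card O) := Nat.coprime_two_right.1 Grp.pPrimeCore_coprime
  let π := QuotientGroup.mk' O
  have hπ : Function.Surjective π := QuotientGroup.mk'_surjective _
  obtain ⟨P, hP, -⟩ := s.exists_sylow
  set E0 := Cfsg.pElementClosure 2 (⊤ : Subgroup ↥s.X) with hE0
  set E := Cfsg.pElementClosure 2 (⊤ : Subgroup (↥s.X ⧸ O)) with hE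
  have hconjE0 : ∀ (g : ↥s.X), ∀ u ∈ s.U, g * u * g⁻¹ ∈ E0 := fun g u hu => subset_closure ⟨mem_top _, by
    obtain ⟨i, -, hi⟩ := (Nat.dvd_prime_pow Nat.prime_two).1 (orderOf_dvd_of_pow_eq_one
      (show (g * u * g⁻¹) ^ 2 ^ 1 = 1 by
        rw [pow_one, pow_two, show g * u * g⁻¹ * (g * u * g⁻¹) = g * (u * u) * g⁻¹ by group, s.U_sq hu]; group))
    exact ⟨i, hi⟩⟩
  have hmap : E0.map π = E := by
    refine le_antisymm ?_ ?_
    · rw [hE0, Cfsg.pElementClosure, MonoidHom.map_closure]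
      refine closure_mono ?_
      rintro _ ⟨x, ⟨-, k, hk⟩, rfl⟩
      obtain ⟨i, -, hi⟩ := (Nat.dvd_prime_pow Nat.prime_two).1 (hk ▸ orderOf_map_dvd π x)
      exact ⟨mem_top _, i, hi⟩
    · rw [hE, Cfsg.pElementClosure, closure_le]
      rintro y ⟨-, k, hk⟩
      have hz : IsPGroup 2 ↥(zpowers y) := IsPGroup.of_card (n := k) (by rw [Nat.card_zpowers, hk])
      obtain ⟨Q, hQ⟩ := hz.exists_le_sylow
      obtain ⟨g, hg⟩ := MulAction.exists_smul_eq (↥s.X ⧸ O) (P.mapSurjective hπ) Q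
      have hy := hQ (mem_zpowers y)
      rw [← hg, Sylow.coe_subgroup_smul, ← Grp.map_conj_eq_smul] at hy
      obtain ⟨_, ⟨u, hu, rfl⟩, rfl⟩ := hy
      obtain ⟨g', rfl⟩ := hπ g
      exact ⟨g' * u * g'⁻¹, hconjE0 g' u (hP ▸ hu), by simp [MulAut.conj_apply]⟩
  -- the restriction
  let f : ↥E0 →* ↥E := (π.comp E0.subtype).codRestrict E fun x => hmap.le ⟨x, x.2, rfl⟩
  have hf : Function.Surjective f := fun y => by
    obtain ⟨x, hx, e⟩ := hmap.ge y.2
    exact ⟨⟨x, hx⟩, Subtype.ext e⟩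
  have hUE : s.U ≤ E0 := s.U_le_closure
  have hkerO : ∀ x : ↥E0, x ∈ f.ker ↔ (x : ↥s.X) ∈ O := fun x => by
    rw [MonoidHom.mem_ker]
    exact ⟨fun e => (QuotientGroup.eq_one_iff _).1 (congrArg Subtype.val e),
      fun e => Subtype.ext ((QuotientGroup.eq_one_iff _).2 e)⟩
  have hkerc : f.ker ≤ center ↥E0 := fun c hc => by
    have hcO := (hkerO c).1 hc
    refine mem_center_iff.2 fun x => Subtype.ext ?_
    have hle : E0 ≤ centralizer ({(c : ↥s.X)} : Set ↥s.X) := by
      refine (closure_le _).2 ?_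
      rintro w ⟨-, k, hk⟩
      obtain ⟨g, hg⟩ := s.exists_conj_U (α := w) (k := k) (by rw [← hk]; exact pow_orderOf_eq_one w)
      refine mem_centralizer_singleton_iff.2 ?_
      have h1 := mem_centralizer_iff.1 (s.odd_normal_centralizes hOn hOodd (hOn.conj_mem _ hcO g)) _ hg
      calc w * (c : ↥s.X) = g⁻¹ * ((g * w * g⁻¹) * (g * c * g⁻¹)) * g := by group
        _ = g⁻¹ * ((g * c * g⁻¹) * (g * w * g⁻¹)) * g := by rw [h1]
        _ = _ := by group
    exact mem_centralizer_singleton_iff.1 (hle x.2)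
  have hUf : ∀ u : ↥E0, (u : ↥s.X) ∈ s.U → f u = 1 → u = 1 := fun u hu e => by
    refine Subtype.ext (orderOf_eq_one_iff.1 (Nat.eq_one_of_dvd_coprimes ?_
      (orderOf_dvd_of_pow_eq_one (show (u : ↥s.X) ^ 2 = 1 by rw [pow_two]; exact s.U_sq hu))
      (Subgroup.orderOf_dvd_natCard _ ((hkerO u).1 (MonoidHom.mem_ker.2 e)))))
    exact Nat.coprime_two_left.2 hOodd
  -- a Sylow subgroup of the quotient
  let P0 : Sylow 2 ↥E0 := P.subtype (hP ▸ hUE)
  let Q0 : Sylow 2 ↥E := P0.mapSurjective hf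
  have hP0 : ∀ x : ↥E0, x ∈ (P0 : Subgroup ↥E0) ↔ (x : ↥s.X) ∈ s.U := fun x => by
    rw [Sylow.coe_subtype, mem_subgroupOf, hP]
  have hQc : IsMulCommutative ↥(Q0 : Subgroup ↥E) := ⟨⟨by
    rintro ⟨_, a, ha, rfl⟩ ⟨_, b, hb, rfl⟩
    refine Subtype.ext ?_
    show f a * f b = f b * f a
    rw [← map_mul, ← map_mul]
    have hab : (a : ↥s.X) * b = b * a :=
      congrArg Subtype.val (s.U_comm.is_comm.comm (⟨_, (hP0 a).1 ha⟩ : ↥s.U) ⟨_, (hP0 b).1 hb⟩)
    exact congrArg f (Subtype.ext hab)⟩⟩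
  have hno : ∀ {K : Type} [Group K] [Finite K], (∀ R : Sylow 2 K, ¬ IsMulCommutative ↥(R : Subgroup K)) →
      ¬ Nonempty (↥E ≃* K) := by
    rintro K _ _ hR ⟨e⟩
    refine hR (Q0.mapSurjective (f := e.toMonoidHom) e.surjective) ⟨⟨?_⟩⟩
    rintro ⟨_, a, ha, rfl⟩ ⟨_, b, hb, rfl⟩
    refine Subtype.ext ?_
    show e a * e b = e b * e a
    rw [← map_mul, ← map_mul]
    exact congrArg e (congrArg Subtype.val (hQc.is_comm.comm ⟨a, ha⟩ ⟨b, hb⟩))
  have hcardQ : Nat.card ↥(Q0 : Subgroup ↥E) = Fintype.card F := by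
    rw [← s.card_U, Sylow.coe_mapSurjective]
    have h1 : Nat.card ↥((P0 : Subgroup ↥E0).map f) = Nat.card ↥(P0 : Subgroup ↥E0) := by
      refine (Nat.card_eq_of_bijective (f.subgroupMap (P0 : Subgroup ↥E0))
        ⟨(injective_iff_map_eq_one _).2 fun x hx => ?_, f.subgroupMap_surjective _⟩).symm
      exact Subtype.ext (hUf x ((hP0 _).1 x.2) (congrArg Subtype.val hx))
    rw [h1, Sylow.coe_subtype, hP, Nat.card_congr (subgroupOfEquivOfLe hUE).toEquiv]
  rcases Cfsg.Agent.S2798.result s.M (s.M_strongly_embedded h) with hc | hc | hc | hc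
  · exfalso
    obtain ⟨x, hx0, hx1⟩ : ∃ x : F, x ≠ 0 ∧ x ≠ 1 := by
      by_contra hall
      push Not at hall
      have : Fintype.card F ≤ 2 := by
        refine le_trans (Fintype.card_le_of_surjective (fun b : Bool => cond b (1 : F) 0) fun y => ?_) (by simp)
        by_cases hy : y = 0
        · exact ⟨false, hy.symm⟩
        · exact ⟨true, (hall y hy).symm⟩
      have := s.hq
      omega
    have hord : ∀ y : F, y ≠ 0 → orderOf (s.up y) = 2 := fun y hy =>
      orderOf_eq_prime (by rw [pow_two]; exact s.U_sq (s.up_mem_U y)) fun e => hy (s.up_injective (e.trans s.up_zero.symm))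
    have h1 := (hc _ (hord 1 one_ne_zero)).2 (s.up x)
      (mem_centralizer_singleton_iff.2 (by rw [s.up_mul, s.up_mul, add_comm])) (hord x hx0)
    exact hx1 (s.up_injective h1)
  · obtain ⟨F0, i1, i2, hchar, h4, ⟨e⟩⟩ := hc
    haveI := hchar
    obtain ⟨R, hR, -⟩ := CentRank.sylow_sl (F := F0)
    have hcard : Fintype.card F0 = Fintype.card F := by
      rw [← hR, ← hcardQ, Nat.card_congr ((Q0.mapSurjective (f := e.toMonoidHom) e.surjective).equiv R).symm.toEquiv,
        Sylow.coe_mapSurjective]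
      exact Subgroup.card_map_of_injective e.injective
    let φ : F0 ≃+* F := FiniteField.ringEquivOfCardEq hcard
    let m : SS(F0) →* SS(F) := Matrix.SpecialLinearGroup.map φ.toRingHom
    have hm : Function.Bijective m := by
      let m' : SS(F) →* SS(F0) := Matrix.SpecialLinearGroup.map φ.symm.toRingHom
      refine Function.bijective_iff_has_inverse.2 ⟨m', fun A => ?_, fun A => ?_⟩ <;>
        (ext i j; simp [m, m'])
    let g : ↥E0 →* SS(F) := m.comp (e.toMonoidHom.comp f)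
    have hg : Function.Surjective g := hm.2.comp (e.surjective.comp hf)
    have hgker : g.ker = f.ker := by
      ext x
      simp only [MonoidHom.mem_ker, g, MonoidHom.coe_comp, Function.comp_apply]
      rw [map_eq_one_iff m hm.1, MulEquiv.coe_toMonoidHom, e.map_eq_one_iff]
    -- the kernel is trivial
    let p := (QuotientGroup.mk' (center (SS(F)))).comp g
    have hp : Function.Surjective p := (QuotientGroup.mk'_surjective _).comp hg
    obtain ⟨n, -, hn⟩ := FiniteField.card F 2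
    have hq := s.hq
    have hn2 : 2 ≤ (n : ℕ) := by
      by_contra hlt
      have := Nat.pow_le_pow_right (n := 2) two_pos (show (n : ℕ) ≤ 1 by omega)
      omega
    have hcen : center (SS(F)) = ⊥ := by
      refine (Subgroup.eq_bot_iff_forall _).2 fun A hA => ?_
      obtain ⟨r, hr, he⟩ := Matrix.SpecialLinearGroup.mem_center_iff.1 hA
      have : r = 1 := by
        rw [Fintype.card_fin, pow_two] at hr
        rcases mul_self_eq_one_iff.1 hr with e | e
        · exact e
        · rw [e, CharTwo.neg_eq]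
      exact Subtype.ext (by rw [← he, this, map_one]; rfl)
    have hgp : p.ker = g.ker := by
      ext x
      rw [MonoidHom.mem_ker, MonoidHom.mem_ker]
      show (QuotientGroup.mk (g x) : SS(F) ⧸ center (SS(F))) = 1 ↔ _
      rw [QuotientGroup.eq_one_iff, hcen, mem_bot]
    haveI : IsSimpleGroup (Matrix.ProjectiveSpecialLinearGroup (Fin 2) F) :=
      Classical.PSL_isSimple le_rfl fun _ => by omega
    have hker : p.ker = center ↥E0 := by
      refine le_antisymm (by rw [hgp, hgker]; exact hkerc) fun x hx => ?_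
      rw [MonoidHom.mem_ker]
      have hmem : p x ∈ center (Matrix.ProjectiveSpecialLinearGroup (Fin 2) F) := mem_center_iff.2 fun y => by
        obtain ⟨w, rfl⟩ := hp y
        rw [← map_mul, ← map_mul, mem_center_iff.1 hx w]
      rcases (inferInstance : (center (Matrix.ProjectiveSpecialLinearGroup (Fin 2) F)).Normal).eq_bot_or_eq_top with
        e' | e'
      · rwa [e', mem_bot] at hmem
      · exfalso
        let a : SS(F) := Grp.SL2.up 1
        let b : SS(F) := Grp.SL2.low 1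
        have h1 : (QuotientGroup.mk (a * b) : Matrix.ProjectiveSpecialLinearGroup (Fin 2) F) = QuotientGroup.mk (b * a) := by
          rw [QuotientGroup.mk_mul, QuotientGroup.mk_mul]
          exact mem_center_iff.1 (e' ▸ mem_top (QuotientGroup.mk b)) _
        rw [QuotientGroup.eq, hcen, mem_bot, inv_mul_eq_one] at h1
        have h2 : (a : Matrix (Fin 2) (Fin 2) F) * (b : Matrix (Fin 2) (Fin 2) F) = b.1 * a.1 :=
          congrArg Subtype.val h1
        have := congrFun (congrFun h2 0) 0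
        simp [a, b, Grp.SL2.up, Grp.SL2.low, Matrix.mul_apply, Fin.sum_univ_two] at this
    have hodd : ∀ z ∈ center ↥E0, orderOf z ≠ 2 := fun z hz h2 => by
      have hzO : (z : ↥s.X) ∈ O := (hkerO z).1 (by rw [← hgker, ← hgp, hker]; exact hz)
      have := Subgroup.orderOf_dvd_natCard _ hzO
      rw [Subgroup.orderOf_coe, h2] at this
      exact (Nat.not_even_iff_odd.2 hOodd) (even_iff_two_dvd.2 this)
    obtain ⟨Φ⟩ := Fus.AbInv.central_split hn2 hn p hp hker hodd
    have hC : center ↥E0 = ⊥ := by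
      refine (Subgroup.eq_bot_iff_forall _).2 fun c hc' => ?_
      let sn : ↥E0 →* ↥(center ↥E0) := (MonoidHom.snd _ _).comp Φ.toMonoidHom
      have hsn : ∀ x, sn x = 1 := by
        have hle : E0 ≤ sn.ker.map E0.subtype := by
          refine (closure_le _).2 ?_
          rintro w hw
          obtain ⟨-, k, hk⟩ := id hw
          have hwE : w ∈ E0 := subset_closure hw
          refine ⟨⟨w, hwE⟩, MonoidHom.mem_ker.2 ?_, rfl⟩
          have hd : orderOf (sn ⟨w, hwE⟩) ∣ 2 ^ k := (orderOf_map_dvd sn _).trans (by rw [Subgroup.orderOf_mk, hk])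
          obtain ⟨i, -, hi⟩ := (Nat.dvd_prime_pow Nat.prime_two).1 hd
          by_contra hne
          have hi0 : i ≠ 0 := fun h0 => hne (orderOf_eq_one_iff.1 (by rw [hi, h0, pow_zero]))
          refine hodd ((sn ⟨w, hwE⟩ : ↥E0) ^ 2 ^ (i - 1)) (pow_mem (sn ⟨w, hwE⟩).2 _) ?_
          rw [orderOf_pow, Subgroup.orderOf_coe, hi, Nat.gcd_eq_right (pow_dvd_pow 2 (by omega)),
            Nat.pow_div (by omega) two_pos, show i - (i - 1) = 1 by omega, pow_one]
        intro x
        obtain ⟨y, hy, e⟩ := hle x.2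
        rw [← Subtype.ext (e : (y : ↥s.X) = (x : ↥s.X))]
        exact MonoidHom.mem_ker.1 hy
      have := hsn (Φ.symm (1, ⟨c, hc'⟩))
      simp only [sn, MonoidHom.coe_comp, MulEquiv.coe_toMonoidHom, Function.comp_apply, MulEquiv.apply_symm_apply,
        MonoidHom.coe_snd] at this
      exact congrArg Subtype.val this
    have hgi : Function.Injective g := (MonoidHom.ker_eq_bot_iff g).1 (by rw [← hgp, hker, hC])
    let eg : ↥E0 ≃* SS(F) := MulEquiv.ofBijective g ⟨hgi, hg⟩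
    obtain ⟨c, hcU⟩ := Nat2.exists_conj_upG 2 (P0.mapSurjective (f := eg.toMonoidHom) eg.surjective)
    have hcU' : (P0 : Subgroup ↥E0).map eg.toMonoidHom =
        (Nat2.upG : Subgroup (SS(F))).map (MulAut.conj c).toMonoidHom := hcU
    refine ⟨E0.subtype.comp (eg.symm.toMonoidHom.comp (MulAut.conj c).toMonoidHom), ?_, ?_, ?_⟩
    · exact Subtype.val_injective.comp (eg.symm.injective.comp (MulAut.conj c).injective)
    · rw [MonoidHom.range_comp, MonoidHom.range_eq_top.2 (eg.symm.surjective.comp (MulAut.conj c).surjective),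
        ← MonoidHom.range_eq_map, range_subtype]
    · intro α
      constructor
      · intro hα
        obtain ⟨_, hu, eu⟩ := (hcU' ▸ ⟨⟨α, hUE hα⟩, (hP0 _).2 hα, rfl⟩ :
          eg ⟨α, hUE hα⟩ ∈ (Nat2.upG : Subgroup (SS(F))).map (MulAut.conj c).toMonoidHom)
        obtain ⟨t, rfl⟩ := Nat2.mem_upG.1 hu
        refine ⟨t, ?_⟩
        show ((eg.symm (MulAut.conj c (Grp.SL2.up t)) : ↥E0) : ↥s.X) = α
        rw [show MulAut.conj c (Grp.SL2.up t) = eg ⟨α, hUE hα⟩ from eu, MulEquiv.symm_apply_apply]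
      · rintro ⟨t, rfl⟩
        obtain ⟨x, hx, ex⟩ := (hcU' ▸ ⟨Grp.SL2.up t, Nat2.mem_upG.2 ⟨t, rfl⟩, rfl⟩ :
          MulAut.conj c (Grp.SL2.up t) ∈ (P0 : Subgroup ↥E0).map eg.toMonoidHom)
        show ((eg.symm (MulAut.conj c (Grp.SL2.up t)) : ↥E0) : ↥s.X) ∈ s.U
        rw [← ex, MulEquiv.coe_toMonoidHom, MulEquiv.symm_apply_apply]
        exact (hP0 x).1 hx
  · exfalso
    obtain ⟨F0, i1, i2, q0, hev, h4, hF0, he⟩ := hc
    obtain ⟨p, hp⟩ := CharP.exists F0
    obtain ⟨k, hpp, hk⟩ := FiniteField.card F0 p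
    have hp2 : p = 2 := by
      have h2 : 2 ∣ Fintype.card F0 := hF0 ▸ dvd_pow (even_iff_two_dvd.1 hev) (by norm_num)
      exact ((Nat.prime_dvd_prime_iff_eq Nat.prime_two hpp).1 (Nat.prime_two.dvd_of_dvd_pow (hk ▸ h2))).symm
    subst hp2
    obtain ⟨n, -, hn⟩ := (Nat.dvd_prime_pow Nat.prime_two).1 (show q0 ∣ 2 ^ (k : ℕ) from hk ▸ hF0 ▸ dvd_pow_self q0 (by norm_num))
    refine hno (fun R => CentInt.psu_sylow_nonabelian hF0 hn ?_ R) he
    by_contra h0
    rw [show n = 0 by omega, pow_zero] at hn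
    omega
  · exfalso
    obtain ⟨F0, i1, i2, m, hm, hF0, he⟩ := hc
    exact hno (fun R => CentInt.suzuki_sylow_nonabelian hm hF0 R) he

end Shape

end Cfsg.Agent.Invol.IsolatedSfour.LType
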