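import Cfsg.Agent.Lib.Invol.IsolatedSfour.LType.Parabolic
import Cfsg.Agent.Lib.Fus.L34Type.Main
import Cfsg.Agent.Lib.Invol.IsolatedSmall.Main
import Cfsg.Agent.Lib.Spor.M21Psl
import Cfsg.Agent.Lib.Invol.StrongClosed.Balance

/-!
# Simple groups with a Sylow 2-subgroup of the type of `L₃(2ⁿ)` are good

A strongly closed `A` or `B` gives a strongly embedded subgroup; otherwise the group is `L₃(2ⁿ)`.
-/

set_option autoImplicit false
set_option linter.unusedSectionVars false
set_option linter.style.haveILetI false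

namespace Cfsg.Agent.Invol.IsolatedSfour.LType

open Subgroup Cfsg Cfsg.Agent.Grp
open scoped commutatorElement

universe u

variable {G : Type u} [Group G] [Finite G] {F : Type} [Field F] [Fintype F] [CharP F 2] (s : Shape G F)

namespace Shape

section

include s

theorem oddCore_eq_bot [IsSimpleGroup G] : Cfsg.oddCore G = ⊥ := by
  haveI hn : (Cfsg.oddCore G).Normal := Grp.pPrimeCore_isNormal
  refine hn.eq_bot_or_eq_top.resolve_right fun h => ?_
  have hc : (Nat.card ↥(Cfsg.oddCore G)).Coprime 2 := Grp.pPrimeCore_coprime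
  rw [h, Subgroup.card_top] at hc
  have h2 : 2 ∣ Nat.card G := by
    obtain ⟨z, hz, hz1⟩ := s.exists_ne_Z
    have := orderOf_dvd_natCard z
    rwa [orderOf_eq_prime (by rw [pow_two]; exact s.A_sq (s.Z_le_A hz)) hz1] at this
  exact (Nat.prime_two.coprime_iff_not_dvd.1 hc.symm) h2

theorem not_comm : ¬ IsMulCommutative G := fun h =>
  one_ne_zero (s.e_mem_A.1 (s.mem_A_of_comm (s.e_mem 0 1 0) (s.e_mem_A.2 rfl : s.e 1 0 0 ∈ s.A)
    (fun hb => one_ne_zero (s.e_mem_B.1 hb)) (h.is_comm.comm _ _)) : (1 : F) = 0)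

/-- If the automiser of `B` fixes `Z`, there is a strongly embedded subgroup. -/
theorem exists_strongly_embedded [IsSimpleGroup G] (h : s.mirror.Pres) :
    ∃ H : Subgroup G, Cfsg.IsStronglyEmbedded H := by
  have hne : s.A ≠ ⊥ := fun e => by
    obtain ⟨z, hz, hz1⟩ := s.exists_ne_Z
    exact hz1 (mem_bot.1 (e ▸ s.Z_le_A hz))
  refine (Fus.Gold.conclusion_all G inferInstance s.not_comm s.S s.A hne s.A_elem (s.closed_of_pres_mirror h)).1.resolve_left ?_
  intro e
  exact one_ne_zero (s.e_mem_A.1 (e ▸ s.e_mem 0 1 0 : s.e 0 1 0 ∈ s.A) : (1 : F) = 0)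

/-- The case of the field with four elements. -/
theorem iso_four [IsSimpleGroup G] (hF : Fintype.card F = 4) :
    Nonempty (G ≃* Matrix.ProjectiveSpecialLinearGroup (Fin 3) F) := by
  classical
  let t : Fus.L34T.Shape G F :=
    { hF := hF, S := s.S, e := s.e, e_mul := s.e_mul, e_inj := s.e_inj, mem_iff := s.mem_iff }
  have hO := s.oddCore_eq_bot
  have hnn : ∀ r : Fus.L34T.Shape G F, ¬ r.mirror.Pres := fun r hr => by
    rcases (r.normal_of_pres hO hr).eq_bot_or_eq_top with e | e
    · exact r.z_ne (mem_bot.1 (e ▸ r.z_mem_A))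
    · exact s.not_comm ⟨⟨fun a b => r.A_comm (e ▸ mem_top a) (e ▸ mem_top b)⟩⟩
  have hA : ¬ t.Pres := by
    have := hnn t.mirror
    rwa [show t.mirror.mirror = t by
      simp only [Fus.L34T.Shape.mirror, t, Fus.L34T.Shape.mk.injEq, true_and]
      funext x y z
      congr 1
      rw [mul_comm y x, add_assoc, CharTwo.add_self_eq_zero, add_zero]] at this
  have hM : Fus.L34T.Moving t := ⟨hO, hA, hnn t⟩
  obtain ⟨f, hf⟩ := hM.embeds
  have hcard : 20160 ≤ Nat.card G := by
    rw [hM.card_group, hM.count.1]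
    rcases t.card_centralizer hM.notA hM.notB hM.core with e | e <;> rw [e] <;> norm_num
  let p : Matrix.ProjectiveSpecialLinearGroup (Fin 3) F →* GL (Fin 3) F ⧸ Subgroup.center (GL (Fin 3) F) :=
    QuotientGroup.map _ _ Matrix.SpecialLinearGroup.toGL (fun A hA => by
      obtain ⟨r, -, he⟩ := Matrix.SpecialLinearGroup.mem_center_iff.1 hA
      refine Subgroup.mem_comap.2 (Subgroup.mem_center_iff.2 fun B => Units.ext ?_)
      show (B : Matrix (Fin 3) (Fin 3) F) * (A : Matrix (Fin 3) (Fin 3) F) = (A : Matrix (Fin 3) (Fin 3) F) * B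
      rw [← he]
      exact (Matrix.scalar_commute r (fun x => Commute.all r x) _).symm.eq)
  have hperf : commutator G = ⊤ := by
    refine (IsSimpleGroup.eq_bot_or_eq_top_of_normal _ inferInstance).resolve_left fun h => s.not_comm ⟨⟨fun a b => ?_⟩⟩
    have hm : ⁅a, b⁆ ∈ commutator G := Subgroup.commutator_mem_commutator (mem_top a) (mem_top b)
    rw [h, mem_bot] at hm
    exact commutatorElement_eq_one_iff_mul_comm.1 hm
  have hrange : f.range ≤ p.range := by
    rw [MonoidHom.range_eq_map, ← hperf, _root_.commutator_def, Subgroup.map_commutator, Subgroup.commutator_le]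
    intro a _ b _
    obtain ⟨A, rfl⟩ := QuotientGroup.mk_surjective a
    obtain ⟨B, rfl⟩ := QuotientGroup.mk_surjective b
    refine ⟨QuotientGroup.mk ⟨((⁅A, B⁆ : GL (Fin 3) F) : Matrix (Fin 3) (Fin 3) F), ?_⟩, ?_⟩
    · rw [← Matrix.GeneralLinearGroup.val_det_apply, map_commutatorElement,
        commutatorElement_eq_one_iff_mul_comm.2 (mul_comm _ _), Units.val_one]
    · refine Eq.trans ?_ (map_commutatorElement (QuotientGroup.mk' (Subgroup.center (GL (Fin 3) F))) A B)
      exact congrArg (QuotientGroup.mk (s := Subgroup.center (GL (Fin 3) F))) (Units.ext rfl)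
  haveI : Finite (Matrix.ProjectiveSpecialLinearGroup (Fin 3) F) := inferInstance
  have hP := Spor.M21.natCard_psl hF
  have h1 : Nat.card ↥p.range ≤ 20160 := hP ▸ Nat.card_le_card_of_surjective _ p.rangeRestrict_surjective
  let g : G →* ↥p.range := f.codRestrict _ fun x => hrange ⟨x, rfl⟩
  have hg : Function.Injective g := fun a b e => hf (congrArg Subtype.val e)
  have h2 := Nat.card_le_card_of_injective g hg
  have eg : G ≃* ↥p.range := MulEquiv.ofBijective g (hg.bijective_of_nat_card_le (h1.trans hcard))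
  have ep : Matrix.ProjectiveSpecialLinearGroup (Fin 3) F ≃* ↥p.range :=
    MulEquiv.ofBijective p.rangeRestrict
      (p.rangeRestrict_surjective.bijective_of_nat_card_le (by omega))
  exact ⟨eg.trans ep.symm⟩

/-- The case of a larger field. -/
theorem iso_large [IsSimpleGroup G] (h8 : 8 ≤ Fintype.card F) (hA : ¬ s.Pres) (hB : ¬ s.mirror.Pres) :
    Nonempty (G ≃* Matrix.ProjectiveSpecialLinearGroup (Fin 3) F) := by
  classical
  obtain ⟨P⟩ := s.exists_pair hA hB s.oddCore_eq_bot
  have h8' : 8 ≤ Nat.card F := by rwa [Nat.card_eq_fintype_card]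
  obtain ⟨e⟩ := P.gfitting_iso h8'
  haveI : IsSimpleGroup (Matrix.ProjectiveSpecialLinearGroup (Fin 3) F) :=
    Classical.PSL_isSimple (F := F) (n := 3) (by norm_num) (by intro h; omega)
  haveI : Nontrivial ↥(Cfsg.generalizedFittingSubgroup G) := e.toEquiv.nontrivial
  haveI : (Cfsg.generalizedFittingSubgroup G).Normal := Subgroup.sup_normal _ _
  have htop : Cfsg.generalizedFittingSubgroup G = ⊤ :=
    (IsSimpleGroup.eq_bot_or_eq_top_of_normal _ inferInstance).resolve_left
      ((Subgroup.nontrivial_iff_ne_bot _).1 inferInstance)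
  exact ⟨(Subgroup.topEquiv.symm.trans (MulEquiv.subgroupCongr htop.symm)).trans e⟩

end

end Shape

/-- A simple group with a Sylow 2-subgroup of the type of `L₃(2ⁿ)` is good. -/
theorem good {p : ℕ} [Fact p.Prime] [IsSimpleGroup G] (hq : 4 ≤ Fintype.card F) (S : Sylow 2 G)
    (T : Sylow 2 (Matrix.SpecialLinearGroup (Fin 3) F))
    (σ : ↥(S : Subgroup G) ≃* ↥(T : Subgroup (Matrix.SpecialLinearGroup (Fin 3) F)))
    (hp2 : p ≠ 2) (hdvd : p ∣ Nat.card G) : IsolatedSmall.Good p G := by
  obtain ⟨s, -⟩ := Shape.exists_shape hq S T σ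
  have hse : ∀ H : Subgroup G, Cfsg.IsStronglyEmbedded H → IsolatedSmall.Good p G := fun H hH =>
    IsolatedSmall.good_of_strongly_embedded s.not_comm hH hp2 hdvd
  by_cases hB : s.mirror.Pres
  · obtain ⟨H, hH⟩ := s.exists_strongly_embedded hB
    exact hse H hH
  by_cases hA : s.Pres
  · obtain ⟨H, hH⟩ := s.mirror.exists_strongly_embedded (by rwa [s.mirror_mirror])
    exact hse H hH
  have hiso : Nonempty (G ≃* Matrix.ProjectiveSpecialLinearGroup (Fin 3) F) := by
    obtain ⟨n, -, hn⟩ := FiniteField.card F 2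
    by_cases h4 : Fintype.card F = 4
    · exact s.iso_four h4
    · refine s.iso_large ?_ hA hB
      rw [hn] at h4 hq ⊢
      refine Nat.pow_le_pow_right (n := 2) two_pos (show 3 ≤ (n : ℕ) from ?_)
      by_contra hlt
      have h3 : (n : ℕ) = 0 ∨ (n : ℕ) = 1 ∨ (n : ℕ) = 2 := by omega
      rcases h3 with e | e | e <;> simp [e] at h4 hq
  obtain ⟨e⟩ := hiso
  exact IsolatedSmall.good_of_psl_three (by omega) hp2 hdvd e

end Cfsg.Agent.Invol.IsolatedSfour.LType
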