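import Cfsg.Agent.Lib.Invol.IsolatedSfour.LType.Linear
import Cfsg.Agent.Lib.Invol.SL2Natural
import Cfsg.Agent.Lib.Invol.NatPair.Mod

/-!
# `A` is the natural module of the automiser

A vector fixed by `U` and by its opposite makes the torus transitive on the nonzero vectors of `A/Z`, so the two
fixed lines span `A` and meet trivially.
-/

set_option autoImplicit false
set_option linter.unusedSectionVars false
set_option linter.style.haveILetI false

namespace Cfsg.Agent.Invol.IsolatedSfour.LType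

open Subgroup Cfsg.Agent.Grp Matrix
open Cfsg.Agent.Invol

universe u

local notation "SS(" F ")" => Matrix.SpecialLinearGroup (Fin 2) F

variable {G : Type u} [Group G] [Finite G] {F : Type} [Field F] [Fintype F] [CharP F 2] (s : Shape G F)

namespace Shape

/-- An automorphism of `A` on coordinates. -/
noncomputable def coord : MulAut ↥s.A →* AddMonoid.End (F × F) where
  toFun α := AddMonoidHom.mk' (fun v => s.vecEquiv.symm (α (s.vecEquiv v))) fun v w => by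
    apply s.vecEquiv.injective
    refine Subtype.ext ?_
    show s.vec _ = s.vec _
    rw [s.vec_add]
    have h : ∀ v, s.vec (s.vecEquiv.symm (α (s.vecEquiv v))) = ((α (s.vecEquiv v) : ↥s.A) : G) := fun v =>
      congrArg Subtype.val (s.vecEquiv.apply_symm_apply (α (s.vecEquiv v)))
    rw [h, h, h, show s.vecEquiv (v + w) = s.vecEquiv v * s.vecEquiv w from Subtype.ext (s.vec_add v w), map_mul]
    rfl
  map_one' := AddMonoidHom.ext fun v => s.vecEquiv.symm_apply_apply v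
  map_mul' α β := AddMonoidHom.ext fun v => by
    show s.vecEquiv.symm (α (β (s.vecEquiv v))) = s.vecEquiv.symm (α (s.vecEquiv (s.vecEquiv.symm (β (s.vecEquiv v)))))
    rw [Equiv.apply_symm_apply]

theorem vec_coord (α : MulAut ↥s.A) (v : F × F) :
    s.vec (s.coord α v) = ((α ⟨s.vec v, s.vec_mem v⟩ : ↥s.A) : G) :=
  congrArg Subtype.val (s.vecEquiv.apply_symm_apply (α (s.vecEquiv v)))

theorem vec_mem_Z {v : F × F} : s.vec v ∈ s.Z ↔ v.1 = 0 := by
  rw [vec, s.e_mem_Z]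
  exact ⟨fun h => h.1, fun h => ⟨h, rfl⟩⟩

theorem exists_natural (h : ¬ s.Pres) : ∃ (ι : SS(F) →* ↥s.X) (Φ : (Fin 2 → F) ≃+ (F × F)),
    Function.Injective ι ∧ ι.range = Cfsg.pElementClosure 2 (⊤ : Subgroup ↥s.X) ∧
    (∀ α, α ∈ s.U ↔ ∃ t, ι (Grp.SL2.up t) = α) ∧
    ∀ (g : SS(F)) (v : Fin 2 → F), Φ ((g : Matrix (Fin 2) (Fin 2) F).mulVec v) = s.coord (ι g : MulAut ↥s.A) (Φ v) := by
  classical
  obtain ⟨ι, hι, hrange, hU⟩ := s.exists_linear h
  let ρ : SS(F) →* AddMonoid.End (F × F) := s.coord.comp (s.X.subtype.comp ι)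
  have hρ : ∀ g v, s.vec (ρ g v) = (((ι g : MulAut ↥s.A) ⟨s.vec v, s.vec_mem v⟩ : ↥s.A) : G) := fun g v =>
    s.vec_coord _ v
  have hup : ∀ t, ι (Grp.SL2.up t) ∈ s.U := fun t => (hU _).2 ⟨t, rfl⟩
  have hfixt : ∀ t, t ≠ 0 → ∀ v : F × F, ρ (Grp.SL2.up t) v = v → v.1 = 0 := fun t ht v hv => by
    have hne : ι (Grp.SL2.up t) ≠ 1 := fun e => ht (NatPair.up_inj ((hι (e.trans (map_one ι).symm)).trans Grp.SL2.up_zero.symm))
    rw [← s.vec_mem_Z]
    exact (s.fix_U (hup t) hne (a := ⟨s.vec v, s.vec_mem v⟩)).1 (Subtype.ext ((hρ _ v).symm.trans (congrArg s.vec hv)))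
  have hfix : ∀ v : F × F, v ∈ SL2Nat.fix ρ ↔ v.1 = 0 := fun v => by
    refine ⟨fun hv => hfixt 1 one_ne_zero v (hv 1), fun hv t => s.vec_injective ?_⟩
    rw [hρ]
    exact congrArg Subtype.val ((hup t).2 ⟨s.vec v, s.vec_mem v⟩ (s.vec_mem_Z.2 hv))
  have hquad : ∀ (v : F × F) t, ρ (Grp.SL2.up t) v - v ∈ SL2Nat.fix ρ := fun v t => by
    rw [hfix, ← s.vec_mem_Z]
    have h1 := (hup t).1 ⟨s.vec v, s.vec_mem v⟩
    rw [Subgroup.coe_mul, Subgroup.coe_inv, ← hρ] at h1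
    rw [sub_eq_add_neg, s.vec_add]
    convert h1 using 2
    refine eq_inv_of_mul_eq_one_left ?_
    rw [← s.vec_add, neg_add_cancel, s.vec_zero]
  have hcardfix : Nat.card ↥(SL2Nat.fix ρ) = Fintype.card F := by
    rw [← Nat.card_eq_fintype_card]
    refine (Nat.card_eq_of_bijective (fun z : F => (⟨(0, z), (hfix _).2 rfl⟩ : ↥(SL2Nat.fix ρ)))
      ⟨fun a b e => congrArg Prod.snd (congrArg Subtype.val e), fun ⟨v, hv⟩ => ⟨v.2, Subtype.ext ?_⟩⟩).symm
    exact Prod.ext ((hfix v).1 hv).symm rfl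
  -- the displacement is onto the fixed line
  have hsurj : ∀ v : F × F, v ∉ SL2Nat.fix ρ → ∀ u ∈ SL2Nat.fix ρ, ∃ t, ρ (Grp.SL2.up t) v - v = u := by
    intro v hv u hu
    let d : F → ↥(SL2Nat.fix ρ) := fun t => ⟨_, hquad v t⟩
    have hd : Function.Injective d := fun a b e => by
      have e' : ρ (Grp.SL2.up a) v = ρ (Grp.SL2.up b) v := sub_left_inj.1 (congrArg Subtype.val e)
      by_contra hab
      refine hv ((hfix v).2 (hfixt (-b + a) (fun e0 => hab (by linear_combination e0)) v ?_))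
      rw [← Grp.SL2.up_mul, SL2Nat.act_mul, e', ← SL2Nat.act_mul, Grp.SL2.up_mul, neg_add_cancel, Grp.SL2.up_zero,
        map_one]
      rfl
    obtain ⟨t, ht⟩ := (hd.bijective_of_nat_card_le (by rw [hcardfix, Nat.card_eq_fintype_card])).2 ⟨u, hu⟩
    exact ⟨t, congrArg Subtype.val ht⟩
  -- the opposite line is not the fixed line
  obtain ⟨z0, hz0, hz0'⟩ : ∃ z ∈ SL2Nat.fix ρ, ρ SL2Nat.wel z ∉ SL2Nat.fix ρ := by
    by_contra hall
    push Not at hall
    have hM : ι SL2Nat.wel ∈ s.M := by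
      intro a
      have hsub : ∀ a : ↥s.A, (a : G) ∈ s.Z → (((ι SL2Nat.wel : MulAut ↥s.A) a : ↥s.A) : G) ∈ s.Z := fun a ha => by
        obtain ⟨v, hv⟩ := s.exists_vec a.2
        obtain rfl : a = ⟨s.vec v, s.vec_mem v⟩ := Subtype.ext hv.symm
        rw [← hρ, s.vec_mem_Z, ← hfix]
        exact hall v ((hfix v).2 (s.vec_mem_Z.1 ha))
      refine ⟨fun ha => ?_, hsub a⟩
      have hw : SL2Nat.wel * SL2Nat.wel = (1 : SS(F)) := by
        rw [SL2Nat.wel_sq]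
        have : (-1 : F) = 1 := CharTwo.neg_eq 1
        simp only [this]
        exact SL2Nat.dg_one
      have h1 := hsub _ ha
      rw [← MulAut.mul_apply, ← Subgroup.coe_mul, ← map_mul, hw, map_one] at h1
      exact h1
    obtain ⟨t, ht⟩ := (hU _).1 (s.conj_mem_U hM (hup 1))
    rw [← map_inv, ← map_mul, ← map_mul] at ht
    have h10 := Nat2.upper_of_conj_up (g := SL2Nat.wel) (t := (1 : F)) (u := t) one_ne_zero
      (by rw [hι ht, inv_mul_cancel_right])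
    simp [SL2Nat.wel] at h10
  have hdisj : ∀ u ∈ SL2Nat.fix ρ, ρ SL2Nat.wel u ∈ SL2Nat.fix ρ → u = 0 := by
    intro u hu hu'
    by_contra hu0
    -- a vector fixed by all of `SL₂`
    set u' := ρ SL2Nat.wel u with hu'def
    have hww : ∀ v, ρ SL2Nat.wel (ρ SL2Nat.wel v) = v := fun v => by
      rw [← SL2Nat.act_mul, SL2Nat.wel_sq]
      have : (-1 : F) = 1 := CharTwo.neg_eq 1
      simp only [this]
      rw [SL2Nat.dg_one, map_one]; rfl
    have hlow : ∀ t, ρ (Grp.SL2.low t) u = u := fun t => by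
      rw [SL2Nat.low_eq, SL2Nat.act_mul, SL2Nat.act_mul, show ρ SL2Nat.wel⁻¹ u = u' from ?_, hu' _, hu'def, hww]
      rw [← hww u, SL2Nat.act_inv]
    have hall : ∀ g : SS(F), ρ g u = u := by
      intro g
      let K : Subgroup (SS(F)) :=
        { carrier := {g | ρ g u = u}
          one_mem' := by rw [Set.mem_setOf_eq, map_one]; rfl
          mul_mem' := fun {a b} ha hb => by rw [Set.mem_setOf_eq, SL2Nat.act_mul, hb, ha]
          inv_mem' := fun {a} ha => by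
            show ρ a⁻¹ u = u
            conv_lhs => rw [← (ha : ρ a u = u)]
            exact SL2Nat.act_inv ρ a u }
      have hw : SL2Nat.wel ∈ K := by
        have e : (Grp.SL2.up 1 * Grp.SL2.low 1 * Grp.SL2.up 1 : SS(F)) = SL2Nat.wel := Subtype.ext (by
          show (Grp.SL2.up 1).1 * (Grp.SL2.low 1).1 * (Grp.SL2.up 1).1 = SL2Nat.wel.1
          ext i j
          fin_cases i <;> fin_cases j <;>
            simp [Grp.SL2.up, Grp.SL2.low, SL2Nat.wel, Matrix.mul_apply, Fin.sum_univ_two, CharTwo.neg_eq,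
              CharTwo.add_self_eq_zero])
        rw [← e]
        exact K.mul_mem (K.mul_mem (hu 1) (hlow 1)) (hu 1)
      exact (SL2Nat.generated K (fun t => hu t) hw).ge (Subgroup.mem_top g)
    set w0 := ρ SL2Nat.wel z0 with hw0
    let W : Set (F × F) := (fun z => ρ SL2Nat.wel z) '' (SL2Nat.fix ρ : Set (F × F))
    have hdgwel : ∀ (a : F) (ha : a ≠ 0), (Nat2.dg a ha * SL2Nat.wel : SS(F)) = SL2Nat.wel * Nat2.dg a⁻¹ (inv_ne_zero ha) :=
      fun a ha => Subtype.ext (by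
        show (Nat2.dg a ha).1 * SL2Nat.wel.1 = SL2Nat.wel.1 * (Nat2.dg a⁻¹ (inv_ne_zero ha)).1
        ext i j
        fin_cases i <;> fin_cases j <;> simp [Nat2.dg, SL2Nat.wel, Matrix.mul_apply, Fin.sum_univ_two])
    have hcover : ∀ v, ∃ a ∈ SL2Nat.fix ρ, ∃ b ∈ SL2Nat.fix ρ, v = a + ρ SL2Nat.wel b := by
      intro v
      by_cases hv : v ∈ SL2Nat.fix ρ
      · exact ⟨v, hv, 0, zero_mem _, by simp⟩
      obtain ⟨t, ht⟩ := hsurj v hv u hu
      obtain ⟨t0, ht0⟩ := hsurj w0 hz0' u hu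
      have ht1 : t ≠ 0 := fun e => hu0 (by rw [← ht, e, Grp.SL2.up_zero, map_one]; exact sub_self v)
      have ht01 : t0 ≠ 0 := fun e => hu0 (by rw [← ht0, e, Grp.SL2.up_zero, map_one]; exact sub_self w0)
      obtain ⟨a, ha⟩ : ∃ a : F, a * a * t0 = t := by
        obtain ⟨a, ha⟩ := (Finite.injective_iff_surjective.1 (frobenius_inj F 2)) (t / t0)
        rw [frobenius_def, pow_two] at ha
        exact ⟨a, by rw [ha, div_mul_cancel₀ _ ht01]⟩
      have ha0 : a ≠ 0 := fun e => ht1 (by rw [← ha, e, zero_mul, zero_mul])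
      set b := ρ (Nat2.dg a⁻¹ (inv_ne_zero ha0)) z0
      have hb : b ∈ SL2Nat.fix ρ := SL2Nat.dg_fix _ hz0
      have hw : ρ (Nat2.dg a ha0) w0 = ρ SL2Nat.wel b := by
        rw [hw0, ← SL2Nat.act_mul, hdgwel, SL2Nat.act_mul]
      have hd : ρ (Grp.SL2.up t) (ρ SL2Nat.wel b) - ρ SL2Nat.wel b = u := by
        rw [← hw, ← SL2Nat.act_mul, ← ha, ← Nat2.dg_up a ha0 t0, SL2Nat.act_mul, ← map_sub, ht0, hall]
      refine ⟨v - ρ SL2Nat.wel b, (hfix _).2 (hfixt t ht1 _ ?_), b, hb, (sub_add_cancel v _).symm⟩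
      rw [map_sub, eq_add_of_sub_eq ht, eq_add_of_sub_eq hd, add_sub_add_left_eq_sub]
    let p : ↥(SL2Nat.fix ρ) × ↥(SL2Nat.fix ρ) → F × F := fun ab => (ab.1 : F × F) + ρ SL2Nat.wel ab.2
    have hp : Function.Bijective p := by
      refine Function.Surjective.bijective_of_nat_card_le (fun v => ?_) ?_
      · obtain ⟨a, ha, b, hb, e⟩ := hcover v
        exact ⟨(⟨a, ha⟩, ⟨b, hb⟩), e.symm⟩
      · rw [Nat.card_prod, Nat.card_prod, hcardfix, Nat.card_eq_fintype_card]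
    have := @hp.1 (⟨u, hu⟩, 0) (0, ⟨u', hu'⟩) (by simp [p, hu'def, hww])
    exact hu0 (congrArg (fun ab => ((ab.1 : ↥(SL2Nat.fix ρ)) : F × F)) this)
  have hlev : ∀ v, v ∈ SL2Nat.fix ρ → v ∈ SL2Nat.lev ρ := fun v hv => ⟨hv, fun t => hquad _ t⟩
  have hirr : SL2Nat.Irr ρ := by
    refine ⟨fun U hUinv => ?_, ⟨Grp.SL2.up 1, (1, 0), fun e => one_ne_zero (hfixt 1 one_ne_zero _ e : (1 : F) = 0)⟩⟩
    by_cases hU0 : U = ⊥
    · exact .inl hU0
    refine .inr ?_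
    obtain ⟨v, hvU, hv0'⟩ : ∃ v ∈ U, v ≠ 0 := by
      by_contra hc
      push Not at hc
      exact hU0 ((AddSubgroup.eq_bot_iff_forall U).2 hc)
    obtain ⟨y, hyU, hy, hy0⟩ : ∃ y ∈ U, y ∈ SL2Nat.fix ρ ∧ y ≠ 0 := by
      by_cases hv : v ∈ SL2Nat.fix ρ
      · exact ⟨v, hvU, hv, hv0'⟩
      obtain ⟨t, ht⟩ := hsurj v hv (0, 1) ((hfix _).2 rfl)
      exact ⟨_, ht ▸ U.sub_mem (hUinv _ v hvU) hvU, (hfix _).2 rfl, by simp⟩
    have hy' : ρ SL2Nat.wel y ∉ SL2Nat.fix ρ := fun e => hy0 (hdisj y hy e)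
    have hfU : ∀ z ∈ SL2Nat.fix ρ, z ∈ U := fun z hz => by
      obtain ⟨t, ht⟩ := hsurj _ hy' z hz
      rw [← ht]
      exact U.sub_mem (hUinv _ _ (hUinv _ _ hyU)) (hUinv _ _ hyU)
    let p : ↥(SL2Nat.fix ρ) × ↥(SL2Nat.fix ρ) → F × F := fun ab => (ab.1 : F × F) + ρ SL2Nat.wel ab.2
    have hp : Function.Bijective p := by
      refine Function.Injective.bijective_of_nat_card_le (fun ab cd e => ?_) ?_
      · have e1 : ρ SL2Nat.wel ((cd.2 : F × F) - ab.2) = (ab.1 : F × F) - cd.1 := by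
          have e' : (ab.1 : F × F) + ρ SL2Nat.wel ab.2 = (cd.1 : F × F) + ρ SL2Nat.wel cd.2 := e
          rw [map_sub, sub_eq_sub_iff_add_eq_add, e', add_comm]
        have e2 := hdisj _ (sub_mem cd.2.2 ab.2.2) (e1 ▸ sub_mem ab.1.2 cd.1.2)
        rw [e2, map_zero] at e1
        exact Prod.ext (Subtype.ext (sub_eq_zero.1 e1.symm)) (Subtype.ext (sub_eq_zero.1 e2).symm)
      · rw [Nat.card_prod, Nat.card_prod, hcardfix, Nat.card_eq_fintype_card]
    refine eq_top_iff.2 fun x _ => ?_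
    obtain ⟨⟨a, b⟩, rfl⟩ := hp.2 x
    exact U.add_mem (hfU _ a.2) (hUinv _ _ (hfU _ b.2))
  obtain ⟨Φ, hΦ⟩ := SL2Nat.natural hirr fun e => by
    have : ((0, 1) : F × F) ∈ SL2Nat.lev ρ := hlev _ ((hfix _).2 rfl)
    rw [e, AddSubgroup.mem_bot] at this
    exact one_ne_zero (congrArg Prod.snd this)
  exact ⟨ι, Φ, hι, hrange, hU, hΦ⟩

/-- A moved `Z` makes the normalizer of `A` transitive on `A`. -/
theorem transitive (h : ¬ s.Pres) {a b : G} (ha : a ∈ s.A) (hb : b ∈ s.A) (ha1 : a ≠ 1) (hb1 : b ≠ 1) :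
    ∃ n ∈ normalizer (s.A : Set G), n * a * n⁻¹ = b := by
  obtain ⟨ι, Φ, -, -, -, hΦ⟩ := s.exists_natural h
  have key : ∀ {c : G}, c ∈ s.A → c ≠ 1 →
      ∃ n ∈ normalizer (s.A : Set G), n * s.vec (Φ ![1, 0]) * n⁻¹ = c := by
    intro c hc hc1
    obtain ⟨v, rfl⟩ := s.exists_vec hc
    obtain ⟨x, rfl⟩ := Φ.surjective v
    have hx : x ≠ 0 := fun e => hc1 (by rw [e, map_zero, s.vec_zero])
    obtain ⟨g, hg⟩ : ∃ g : SS(F), (g : Matrix (Fin 2) (Fin 2) F).mulVec ![1, 0] = x := by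
      by_cases h0 : x 0 = 0
      · have h1 : x 1 ≠ 0 := fun e => hx (by ext i; fin_cases i <;> assumption)
        refine ⟨⟨!![0, (x 1)⁻¹; x 1, 0], by simp [Matrix.det_fin_two, h1, CharTwo.neg_eq]⟩, ?_⟩
        ext i; fin_cases i <;> simp [Matrix.mulVec, dotProduct, Fin.sum_univ_two, h0]
      · refine ⟨⟨!![x 0, 0; x 1, (x 0)⁻¹], by simp [Matrix.det_fin_two, h0]⟩, ?_⟩
        ext i; fin_cases i <;> simp [Matrix.mulVec, dotProduct, Fin.sum_univ_two]
    obtain ⟨⟨n, hn⟩, e⟩ := (ι g).2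
    refine ⟨n, hn, ?_⟩
    rw [← hg, hΦ, s.vec_coord, ← e]
    rfl
  obtain ⟨n, hn, e⟩ := key ha ha1
  obtain ⟨m, hm, e'⟩ := key hb hb1
  refine ⟨m * n⁻¹, mul_mem hm (inv_mem hn), ?_⟩
  rw [← e', ← e]; group

/-- A vector fixed by the whole automiser is trivial when `Z` is moved. -/
theorem pres_of_fixed {z : G} (hz : z ∈ s.Z) (hz1 : z ≠ 1)
    (hf : ∀ g ∈ normalizer (s.A : Set G), g * z * g⁻¹ = z) : s.Pres := by
  by_contra h
  have key : ∀ w ∈ s.A, w ≠ 1 → w = z := fun w hw hw1 => by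
    obtain ⟨n, hn, e⟩ := s.transitive h (s.Z_le_A hz) hw hz1 hw1
    rw [← e, hf n hn]
  have h1 := key _ (s.e_mem_A.2 rfl : s.e 1 0 0 ∈ s.A) fun e => one_ne_zero (s.e_eq_one.1 e).1
  exact one_ne_zero (s.e_mem_Z.1 (h1 ▸ hz : s.e 1 0 0 ∈ s.Z)).1

end Shape

end Cfsg.Agent.Invol.IsolatedSfour.LType
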