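import Cfsg.Agent.Lib.Invol.IsolatedSfour.LType.Cores
import Cfsg.Agent.Lib.Invol.NatPair.Main

/-!
# Two natural parabolics
-/

set_option autoImplicit false
set_option linter.unusedSectionVars false
set_option linter.style.haveILetI false

namespace Cfsg.Agent.Invol.IsolatedSfour.LType

open Subgroup Cfsg.Agent.Grp Matrix

universe u

local notation "SS(" F ")" => Matrix.SpecialLinearGroup (Fin 2) F

variable {G : Type u} [Group G] [Finite G] {F : Type} [Field F] [Fintype F] [CharP F 2] (s : Shape G F)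

namespace Shape

/-- The subgroup of `N(A)` over the 2-generated part of the automiser. -/
noncomputable def L : Subgroup G :=
  ((Cfsg.pElementClosure 2 (⊤ : Subgroup ↥s.X)).comap s.th.rangeRestrict).map
    (normalizer (s.A : Set G)).subtype

theorem mem_L {g : G} : g ∈ s.L ↔ ∃ h : g ∈ normalizer (s.A : Set G),
    s.th.rangeRestrict ⟨g, h⟩ ∈ Cfsg.pElementClosure 2 (⊤ : Subgroup ↥s.X) :=
  ⟨fun ⟨⟨_, h⟩, hm, e⟩ => by subst e; exact ⟨h, hm⟩, fun ⟨h, hm⟩ => ⟨⟨g, h⟩, hm, rfl⟩⟩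

theorem normalizer_le_normalizer_L : normalizer (s.A : Set G) ≤ normalizer (s.L : Set G) := by
  intro n hn
  refine mem_normalizer_fintype fun x hx => ?_
  obtain ⟨h, hm⟩ := s.mem_L.1 hx
  refine s.mem_L.2 ⟨mul_mem (mul_mem hn h) (inv_mem hn), ?_⟩
  have e : s.th.rangeRestrict ⟨n * x * n⁻¹, mul_mem (mul_mem hn h) (inv_mem hn)⟩ =
      s.th.rangeRestrict ⟨n, hn⟩ * s.th.rangeRestrict ⟨x, h⟩ * (s.th.rangeRestrict ⟨n, hn⟩)⁻¹ := by
    rw [← map_inv, ← map_mul, ← map_mul]; rfl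
  rw [e]
  generalize s.th.rangeRestrict ⟨n, hn⟩ = α
  have hle : Cfsg.pElementClosure 2 (⊤ : Subgroup ↥s.X) ≤
      (Cfsg.pElementClosure 2 (⊤ : Subgroup ↥s.X)).comap (MulAut.conj α).toMonoidHom := by
    refine (closure_le _).2 ?_
    rintro w ⟨-, k, hk⟩
    exact subset_closure ⟨mem_top _, k, ((MulAut.conj α).orderOf_eq w).trans hk⟩
  exact hle hm

theorem exists_mod (hA : ¬ s.Pres) (hB : ¬ s.mirror.Pres) (hO : Cfsg.oddCore G = ⊥) :
    Nonempty (NatPair.Mod s.L s.A (s.S : Subgroup G) F) := by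
  classical
  obtain ⟨ι, Φ, hι, hrange, hU, hΦ⟩ := s.exists_natural hA
  set N := normalizer (s.A : Set G)
  have hA' : ∀ a ∈ s.A, a ∈ N := fun a ha => s.S_le_normalizer (s.A_le ha)
  have hker : ∀ (g : G) (h : g ∈ N), s.th.rangeRestrict ⟨g, h⟩ = 1 ↔ g ∈ s.A := by
    intro g h
    rw [← MonoidHom.mem_ker, MonoidHom.ker_rangeRestrict, s.mem_ker_th]
    exact ⟨fun hc => s.centralizer_A hA hB hO hc, fun hg a ha => s.A_comm hg ha⟩
  have hLN : ∀ l : ↥s.L, (l : G) ∈ N := fun l => (s.mem_L.1 l.2).1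
  let res : ↥s.L →* ↥(ι.range) := (s.th.rangeRestrict.comp
    (Subgroup.inclusion (fun l hl => (s.mem_L.1 hl).1 : s.L ≤ N))).codRestrict _
    fun l => hrange.symm ▸ (s.mem_L.1 l.2).2
  let ρ : ↥s.L →* SS(F) := (MonoidHom.ofInjective hι).symm.toMonoidHom.comp res
  have hρ : ∀ (l : ↥s.L), ι (ρ l) = s.th.rangeRestrict ⟨l, hLN l⟩ := fun l =>
    congrArg Subtype.val ((MonoidHom.ofInjective hι).apply_symm_apply (res l))
  have hSL : (s.S : Subgroup G) ≤ s.L := fun g hg => by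
    refine s.mem_L.2 ⟨s.S_le_normalizer hg, s.U_le_closure ?_⟩
    obtain ⟨y, hy⟩ := s.th_S hg
    exact (Subtype.ext hy : s.th.rangeRestrict ⟨g, s.S_le_normalizer hg⟩ = s.up y) ▸ s.up_mem_U y
  let V : Additive ↥s.A ≃+ (F × F) :=
    { toEquiv := Additive.toMul.trans s.vecEquiv.symm
      map_add' := fun a b => by
        apply s.vecEquiv.injective
        refine Subtype.ext ?_
        show (s.vecEquiv (s.vecEquiv.symm (Additive.toMul (a + b))) : G) = s.vec _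
        rw [Equiv.apply_symm_apply, s.vec_add]
        show ((Additive.toMul a : ↥s.A) : G) * (Additive.toMul b : ↥s.A) = _
        conv_lhs => rw [← s.vecEquiv.apply_symm_apply (Additive.toMul a), ← s.vecEquiv.apply_symm_apply (Additive.toMul b)]
        rfl }
  refine ⟨{ le := fun a ha => hSL (s.A_le ha), norm := fun l hl => (s.mem_L.1 hl).1, ρ := ρ, surj := ?_, ker := ?_,
            ψ := V.trans Φ.symm, act := ?_, Jle := hSL, mem_J := ?_ }⟩
  · intro g
    obtain ⟨⟨n, hn⟩, e⟩ := (ι g).2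
    have e' : s.th.rangeRestrict ⟨n, hn⟩ = ι g := Subtype.ext e
    refine ⟨⟨n, s.mem_L.2 ⟨hn, e' ▸ hrange ▸ ⟨g, rfl⟩⟩⟩, hι ?_⟩
    rw [hρ, e']
  · intro l
    rw [← hker l (hLN l), ← hρ, map_eq_one_iff ι hι]
  · rintro l v hv
    show Φ.symm (V (Additive.ofMul ⟨(l : G) * v * (l : G)⁻¹, hv⟩)) = _
    refine Φ.injective ?_
    rw [Φ.apply_symm_apply, hΦ, hρ]
    refine s.vec_injective ?_
    rw [s.vec_coord]
    show (s.vecEquiv (s.vecEquiv.symm ⟨(l : G) * v * (l : G)⁻¹, hv⟩) : G) = _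
    rw [Equiv.apply_symm_apply]
    show (l : G) * v * (l : G)⁻¹ = (l : G) * s.vec (Φ (Φ.symm (V (Additive.ofMul v)))) * (l : G)⁻¹
    rw [Φ.apply_symm_apply]
    show _ = (l : G) * (s.vecEquiv (s.vecEquiv.symm v) : G) * (l : G)⁻¹
    rw [Equiv.apply_symm_apply]
  · intro l
    constructor
    · intro hl
      obtain ⟨y, hy⟩ := s.th_S hl
      obtain ⟨t, ht⟩ := (hU _).1 (s.up_mem_U y)
      exact ⟨t, hι (by rw [hρ, ht]; exact Subtype.ext hy)⟩
    · rintro ⟨t, ht⟩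
      obtain ⟨y, hy⟩ := s.exists_up ((hU _).2 ⟨t, rfl⟩)
      have h1 : s.th.rangeRestrict ⟨l, hLN l⟩ = s.th.rangeRestrict ⟨s.e 0 y 0, s.S_le_normalizer (s.e_mem 0 y 0)⟩ := by
        rw [← hρ, ht, ← hy]; rfl
      have h2 : (s.e 0 y 0)⁻¹ * (l : G) ∈ s.A := by
        refine (hker _ (mul_mem (inv_mem (s.S_le_normalizer (s.e_mem 0 y 0))) (hLN l))).1 ?_
        rw [show (⟨(s.e 0 y 0)⁻¹ * (l : G), _⟩ : ↥N) =
          (⟨s.e 0 y 0, s.S_le_normalizer (s.e_mem 0 y 0)⟩ : ↥N)⁻¹ * ⟨l, hLN l⟩ from rfl, map_mul, map_inv, h1,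
          inv_mul_cancel]
      have := (s.S : Subgroup G).mul_mem (s.e_mem 0 y 0) (s.A_le h2)
      rwa [mul_inv_cancel_left] at this

/-- The two parabolics form a `Pair`. -/
theorem exists_pair (hA : ¬ s.Pres) (hB : ¬ s.mirror.Pres) (hO : Cfsg.oddCore G = ⊥) :
    Nonempty (NatPair.Pair s.L s.mirror.L s.A s.B (s.S : Subgroup G) (s.S : Subgroup G) F) := by
  haveI : Fact (Nat.Prime 2) := ⟨Nat.prime_two⟩
  obtain ⟨m1⟩ := s.exists_mod hA hB hO
  obtain ⟨m2⟩ := s.mirror.exists_mod hB (by rwa [s.mirror_mirror]) hO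
  obtain ⟨n, -, hn⟩ := FiniteField.card F 2
  have hq := s.hq
  have hn2 : 2 ≤ (n : ℕ) := by
    by_contra hlt
    have := Nat.pow_le_pow_right (n := 2) two_pos (show (n : ℕ) ≤ 1 by omega)
    omega
  -- a 2-group normalized by the natural parabolic lies in its module
  have key : ∀ {r : Shape G F} (m : NatPair.Mod r.L r.A (r.S : Subgroup G) F) (D : Subgroup G),
      D ≤ (r.S : Subgroup G) → r.L ≤ normalizer (D : Set G) → D ≤ r.A := by
    intro r m D hD hn d hd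
    obtain ⟨t, ht⟩ := (m.mem_J ⟨d, m.Jle (hD hd)⟩).1 (hD hd)
    obtain ⟨w, hw⟩ := m.exists_lift SL2Nat.wel
    have hd' : (w : G) * d * (w : G)⁻¹ ∈ D := mem_conj_normalizer (hn w.2) hd
    obtain ⟨u, hu⟩ := (m.mem_J ⟨_, m.Jle (hD hd')⟩).1 (hD hd')
    rw [show (⟨_, m.Jle (hD hd')⟩ : ↥r.L) = w * ⟨d, m.Jle (hD hd)⟩ * w⁻¹ from Subtype.ext rfl, map_mul, map_mul,
      map_inv, hw, ht] at hu
    by_contra hne
    have ht0 : t ≠ 0 := fun e => hne ((m.ker ⟨d, m.Jle (hD hd)⟩).1 (by rw [ht, e, Grp.SL2.up_zero]))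
    have h10 := Nat2.upper_of_conj_up (g := SL2Nat.wel) (t := t) (u := u) ht0 (by rw [← hu, inv_mul_cancel_right])
    simp [SL2Nat.wel] at h10
  refine ⟨{ m1 := m1, m2 := s.mirror_A ▸ m2, Jeq := s.A_sup_B.symm, e := n, he := hn2,
            hF := by rw [Nat.card_eq_fintype_card]; exact hn
            nL1 := s.normalizer_le_normalizer_L, nL2 := s.mirror_A ▸ s.mirror.normalizer_le_normalizer_L
            TV1 := s.S_le_normalizer, TV2 := s.mirror_A ▸ s.mirror.S_le_normalizer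
            core := ?_, char2 := s.charTwoType hA hB hO }⟩
  intro D hD _ _ hSD hL1 hL2
  have hDS : D ≤ (s.S : Subgroup G) := by
    have hsup := IsPGroup.to_sup_of_normal_left' hD s.S.isPGroup' hSD
    exact le_sup_left.trans (s.S.is_maximal' hsup le_sup_right).le
  have hDA := key m1 D hDS hL1
  have hDB : D ≤ s.B := s.mirror_A ▸ key m2 D hDS hL2
  refine (Subgroup.eq_bot_iff_forall _).2 fun d hd => ?_
  obtain ⟨w, hw⟩ := m1.exists_lift SL2Nat.wel
  have hd' : (w : G) * d * (w : G)⁻¹ ∈ D := mem_conj_normalizer (hL1 w.2) hd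
  obtain ⟨l, hl⟩ := m1.exists_lift (Grp.SL2.up 1)
  have hlS : (l : G) ∈ (s.S : Subgroup G) := (m1.mem_J l).2 ⟨1, hl⟩
  have hfix : ∀ x ∈ D, m1.co x 1 = 0 := fun x hx => by
    have e := m1.co_conj l (hDA hx)
    rw [s.Z_central hlS ⟨hDA hx, hDB hx⟩, mul_inv_cancel_right, hl, Nat2.mulVec_up] at e
    have := congrFun e 0
    simpa using this
  have e := m1.co_conj w (hDA hd)
  rw [hw, NatPair.mulVec_wel] at e
  have h1 := hfix _ hd'
  rw [e] at h1
  simp only [Matrix.cons_val_one, Matrix.cons_val_fin_one] at h1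
  rw [← m1.vec_co (hDA hd), m1.vec_eq_one]
  ext i
  fin_cases i
  · exact h1
  · exact hfix _ hd

end Shape

end Cfsg.Agent.Invol.IsolatedSfour.LType
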