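import Cfsg.Agent.Lib.Fus.HeisenbergSL
import Cfsg.Agent.Lib.Grp.Coprime
import Cfsg.Agent.Lib.Grp.Basic
import Cfsg.Prelude.Def_Balance

/-!
# Sylow 2-subgroups of the type of `L₃(2ⁿ)`

`e x y z` multiplies as the unitriangular matrices over a field of characteristic two with at least four elements;
`A = e(*, 0, *)` and `B = e(0, *, *)` are its maximal elementary abelian subgroups and `Z` is their intersection,
the centre.
-/

set_option autoImplicit false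
set_option linter.unusedSectionVars false
set_option linter.style.haveILetI false

namespace Cfsg.Agent.Invol.IsolatedSfour.LType

open Subgroup Cfsg.Agent.Grp

universe u

/-- Coordinates on a Sylow 2-subgroup. -/
structure Shape (G : Type u) [Group G] (F : Type) [Field F] [Fintype F] where
  hq : 4 ≤ Fintype.card F
  S : Sylow 2 G
  e : F → F → F → G
  e_mul : ∀ x y z x' y' z', e x y z * e x' y' z' = e (x + x') (y + y') (z + z' + x * y')
  e_inj : ∀ x y z x' y' z', e x y z = e x' y' z' → x = x' ∧ y = y' ∧ z = z'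
  mem_iff : ∀ g, g ∈ (S : Subgroup G) ↔ ∃ x y z, e x y z = g

variable {G : Type u} [Group G] [Finite G] {F : Type} [Field F] [Fintype F] [CharP F 2] (s : Shape G F)

local notation "qF" => Fintype.card F

namespace Shape

theorem addSelf (a : F) : a + a = 0 := CharTwo.add_self_eq_zero a

theorem e_one : s.e 0 0 0 = 1 := by
  have := s.e_mul 0 0 0 0 0 0
  simpa using this

theorem e_mem (x y z : F) : s.e x y z ∈ (s.S : Subgroup G) := (s.mem_iff _).2 ⟨x, y, z, rfl⟩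

theorem e_inv (x y z : F) : (s.e x y z)⁻¹ = s.e x y (z + x * y) := by
  refine inv_eq_of_mul_eq_one_right ?_
  rw [s.e_mul, ← s.e_one, addSelf, addSelf, ← add_assoc z z, addSelf, zero_add, addSelf]

theorem e_sq (x y z : F) : s.e x y z * s.e x y z = s.e 0 0 (x * y) := by
  rw [s.e_mul, addSelf, addSelf, addSelf, zero_add]

theorem e_eq_one {x y z : F} : s.e x y z = 1 ↔ x = 0 ∧ y = 0 ∧ z = 0 :=
  ⟨fun h => s.e_inj _ _ _ _ _ _ (h.trans s.e_one.symm), by rintro ⟨rfl, rfl, rfl⟩; exact s.e_one⟩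

theorem e_conj (a b c x z : F) : s.e a b c * s.e x 0 z * (s.e a b c)⁻¹ = s.e x 0 (z + b * x) := by
  have h2 : (2 : F) = 0 := CharTwo.two_eq_zero
  rw [mul_inv_eq_iff_eq_mul, s.e_mul, s.e_mul, zero_add, add_zero, add_comm a x]
  congr 1
  linear_combination (-b * x) * h2

/-- `A`. -/
def A : Subgroup G where
  carrier := {g | ∃ x z, s.e x 0 z = g}
  one_mem' := ⟨0, 0, s.e_one⟩
  mul_mem' := by
    rintro _ _ ⟨x, z, rfl⟩ ⟨x', z', rfl⟩
    exact ⟨x + x', z + z', by rw [s.e_mul, mul_zero, add_zero, add_zero]⟩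
  inv_mem' := by
    rintro _ ⟨x, z, rfl⟩
    exact ⟨x, z, by rw [s.e_inv, mul_zero, add_zero]⟩

/-- `B`. -/
def B : Subgroup G where
  carrier := {g | ∃ y z, s.e 0 y z = g}
  one_mem' := ⟨0, 0, s.e_one⟩
  mul_mem' := by
    rintro _ _ ⟨y, z, rfl⟩ ⟨y', z', rfl⟩
    exact ⟨y + y', z + z', by rw [s.e_mul, zero_mul, add_zero, add_zero]⟩
  inv_mem' := by
    rintro _ ⟨y, z, rfl⟩
    exact ⟨y, z, by rw [s.e_inv, zero_mul, add_zero]⟩

theorem mem_A {g : G} : g ∈ s.A ↔ ∃ x z, s.e x 0 z = g := Iff.rfl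

theorem mem_B {g : G} : g ∈ s.B ↔ ∃ y z, s.e 0 y z = g := Iff.rfl

theorem e_mem_A {x y z : F} : s.e x y z ∈ s.A ↔ y = 0 :=
  ⟨fun ⟨_, _, h⟩ => ((s.e_inj _ _ _ _ _ _ h).2.1).symm, fun h => h ▸ ⟨x, z, rfl⟩⟩

theorem e_mem_B {x y z : F} : s.e x y z ∈ s.B ↔ x = 0 :=
  ⟨fun ⟨_, _, h⟩ => ((s.e_inj _ _ _ _ _ _ h).1).symm, fun h => h ▸ ⟨y, z, rfl⟩⟩

theorem A_le : s.A ≤ (s.S : Subgroup G) := by rintro _ ⟨x, z, rfl⟩; exact s.e_mem _ _ _

theorem B_le : s.B ≤ (s.S : Subgroup G) := by rintro _ ⟨x, z, rfl⟩; exact s.e_mem _ _ _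

/-- The coordinates of `A`. -/
def vec (v : F × F) : G := s.e v.1 0 v.2

theorem vec_mem (v : F × F) : s.vec v ∈ s.A := ⟨v.1, v.2, rfl⟩

theorem vec_add (v w : F × F) : s.vec (v + w) = s.vec v * s.vec w := by
  rw [vec, vec, vec, s.e_mul, mul_zero, add_zero, add_zero]; rfl

theorem vec_injective : Function.Injective s.vec := fun _ _ h =>
  Prod.ext (s.e_inj _ _ _ _ _ _ h).1 (s.e_inj _ _ _ _ _ _ h).2.2

theorem vec_eq_one {v : F × F} : s.vec v = 1 ↔ v = 0 := by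
  rw [vec, s.e_eq_one, Prod.ext_iff]; simp

theorem vec_zero : s.vec 0 = 1 := s.vec_eq_one.2 rfl

/-- `F × F ≃ A`. -/
noncomputable def vecEquiv : F × F ≃ ↥s.A :=
  Equiv.ofBijective (fun v => ⟨s.vec v, s.vec_mem v⟩)
    ⟨fun _ _ h => s.vec_injective (congrArg Subtype.val h), fun ⟨_, x, z, h⟩ => ⟨(x, z), Subtype.ext h⟩⟩

theorem exists_vec {g : G} (hg : g ∈ s.A) : ∃ v, s.vec v = g := by
  obtain ⟨x, z, rfl⟩ := hg; exact ⟨(x, z), rfl⟩

theorem A_comm {a b : G} (ha : a ∈ s.A) (hb : b ∈ s.A) : a * b = b * a := by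
  obtain ⟨v, rfl⟩ := s.exists_vec ha
  obtain ⟨w, rfl⟩ := s.exists_vec hb
  rw [← s.vec_add, ← s.vec_add, add_comm]

theorem A_sq {a : G} (ha : a ∈ s.A) : a * a = 1 := by
  obtain ⟨x, z, rfl⟩ := ha
  rw [s.e_sq, mul_zero, s.e_one]

theorem A_elem : Cfsg.IsElementaryAbelian 2 s.A :=
  ⟨⟨⟨fun a b => Subtype.ext (s.A_comm a.2 b.2)⟩⟩, fun a ha => by rw [pow_two]; exact s.A_sq ha⟩

theorem card_A : Nat.card ↥s.A = qF * qF := by
  rw [← Nat.card_congr s.vecEquiv, Nat.card_prod, Nat.card_eq_fintype_card]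

theorem card_S : Nat.card ↥(s.S : Subgroup G) = qF * (qF * qF) := by
  have h : Function.Bijective (fun p : F × F × F => (⟨s.e p.1 p.2.1 p.2.2, s.e_mem _ _ _⟩ : ↥(s.S : Subgroup G))) := by
    refine ⟨fun p q h => ?_, fun g => ?_⟩
    · obtain ⟨h1, h2, h3⟩ := s.e_inj _ _ _ _ _ _ (congrArg Subtype.val h)
      exact Prod.ext h1 (Prod.ext h2 h3)
    · obtain ⟨x, y, z, h⟩ := (s.mem_iff _).1 g.2
      exact ⟨(x, y, z), Subtype.ext h⟩
  rw [← Nat.card_eq_of_bijective _ h, Nat.card_prod, Nat.card_prod, Nat.card_eq_fintype_card]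

theorem S_le_normalizer : (s.S : Subgroup G) ≤ normalizer (s.A : Set G) := fun g hg => by
  obtain ⟨a, b, c, rfl⟩ := (s.mem_iff g).1 hg
  refine mem_normalizer_fintype fun x hx => ?_
  obtain ⟨x, z, rfl⟩ := hx
  exact ⟨x, z + b * x, (s.e_conj a b c x z).symm⟩

/-- An involution of `S` lies in `A` or in `B`. -/
theorem mem_A_or_B {g : G} (hg : g ∈ (s.S : Subgroup G)) (h2 : g * g = 1) : g ∈ s.A ∨ g ∈ s.B := by
  obtain ⟨x, y, z, rfl⟩ := (s.mem_iff g).1 hg
  rw [s.e_sq, s.e_eq_one] at h2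
  rcases mul_eq_zero.1 h2.2.2 with h | h
  · exact .inr (s.e_mem_B.2 h)
  · exact .inl (s.e_mem_A.2 h)

theorem sub_A_or_B {U : Subgroup G} (hU : U ≤ (s.S : Subgroup G)) (h2 : ∀ u ∈ U, u * u = 1) :
    U ≤ s.A ∨ U ≤ s.B := by
  by_contra hc
  simp only [SetLike.le_def, not_or, not_forall] at hc
  obtain ⟨⟨x, hx, hx'⟩, y, hy, hy'⟩ := hc
  have hxB := (s.mem_A_or_B (hU hx) (h2 x hx)).resolve_left hx'
  have hyA := (s.mem_A_or_B (hU hy) (h2 y hy)).resolve_right hy'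
  rcases s.mem_A_or_B (hU (mul_mem hx hy)) (h2 _ (mul_mem hx hy)) with h | h
  · exact hx' ((mul_mem_cancel_right hyA).1 h)
  · exact hy' ((mul_mem_cancel_left hxB).1 h)

/-- An element of `S` commuting with an element of `A` outside `B` is in `A`. -/
theorem mem_A_of_comm {g a : G} (hg : g ∈ (s.S : Subgroup G)) (ha : a ∈ s.A) (haB : a ∉ s.B)
    (h : g * a = a * g) : g ∈ s.A := by
  obtain ⟨p, q, r, rfl⟩ := (s.mem_iff g).1 hg
  obtain ⟨x, z, rfl⟩ := ha
  rw [s.e_mem_A]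
  have hx : x ≠ 0 := fun e => haB (s.e_mem_B.2 e)
  have := s.e_conj p q r x z
  rw [h, mul_inv_cancel_right] at this
  have := (s.e_inj _ _ _ _ _ _ this).2.2
  simpa [hx] using this

/-- The roles of `A` and `B` interchanged. -/
def mirror : Shape G F where
  hq := s.hq
  S := s.S
  e x y z := s.e y x (z + x * y)
  e_mul x y z x' y' z' := by
    have h2 : (2 : F) = 0 := CharTwo.two_eq_zero
    rw [s.e_mul]
    congr 1
    linear_combination (-x * y') * h2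
  e_inj x y z x' y' z' h := by
    obtain ⟨rfl, rfl, h3⟩ := s.e_inj _ _ _ _ _ _ h
    exact ⟨rfl, rfl, add_right_cancel h3⟩
  mem_iff g := by
    refine (s.mem_iff g).trans ⟨fun ⟨x, y, z, h⟩ => ⟨y, x, z + y * x, ?_⟩, fun ⟨x, y, z, h⟩ => ⟨_, _, _, h⟩⟩
    rwa [add_assoc, addSelf, add_zero]

theorem mirror_A : s.mirror.A = s.B := by
  ext g
  exact ⟨fun ⟨x, z, h⟩ => ⟨x, z, by rw [← h]; simp [mirror]⟩,
    fun ⟨x, z, h⟩ => ⟨x, z, by rw [← h]; simp [mirror]⟩⟩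

theorem mirror_B : s.mirror.B = s.A := by
  ext g
  exact ⟨fun ⟨x, z, h⟩ => ⟨x, z, by rw [← h]; simp [mirror]⟩,
    fun ⟨x, z, h⟩ => ⟨x, z, by rw [← h]; simp [mirror]⟩⟩

/-- The shape in a subgroup containing `S`. -/
noncomputable def restrict (H : Subgroup G) (hH : (s.S : Subgroup G) ≤ H) : Shape ↥H F where
  hq := s.hq
  S := s.S.subtype hH
  e x y z := ⟨s.e x y z, hH (s.e_mem x y z)⟩
  e_mul x y z x' y' z' := Subtype.ext (s.e_mul x y z x' y' z')
  e_inj x y z x' y' z' h := s.e_inj _ _ _ _ _ _ (congrArg Subtype.val h)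
  mem_iff g := by
    rw [Sylow.coe_subtype, mem_subgroupOf, s.mem_iff]
    exact ⟨fun ⟨x, y, z, h⟩ => ⟨x, y, z, Subtype.ext h⟩, fun ⟨x, y, z, h⟩ => ⟨x, y, z, congrArg Subtype.val h⟩⟩

theorem restrict_A (H : Subgroup G) (hH : (s.S : Subgroup G) ≤ H) : (s.restrict H hH).A = s.A.subgroupOf H := by
  ext g
  rw [mem_subgroupOf]
  exact ⟨fun ⟨x, z, h⟩ => ⟨x, z, congrArg Subtype.val h⟩, fun ⟨x, z, h⟩ => ⟨x, z, Subtype.ext h⟩⟩

/-- The image of a shape under a surjection with kernel of odd order. -/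
noncomputable def map {Q : Type u} [Group Q] [Finite Q] (f : G →* Q) (hf : Function.Surjective f)
    (hker : Odd (Nat.card f.ker)) : Shape Q F where
  hq := s.hq
  S := s.S.mapSurjective hf
  e x y z := f (s.e x y z)
  e_mul x y z x' y' z' := by rw [← map_mul, s.e_mul]
  e_inj x y z x' y' z' h := by
    refine s.e_inj _ _ _ _ _ _ (inv_mul_eq_one.1 ?_)
    set g := (s.e x y z)⁻¹ * s.e x' y' z' with hg
    have hk : g ∈ f.ker := by rw [MonoidHom.mem_ker, hg, map_mul, map_inv, h, inv_mul_cancel]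
    have hS : g ∈ (s.S : Subgroup G) := mul_mem (inv_mem (s.e_mem _ _ _)) (s.e_mem _ _ _)
    have h1 := Subgroup.orderOf_coe (⟨g, hS⟩ : ↥(s.S : Subgroup G)) ▸
      (orderOf_dvd_natCard (⟨g, hS⟩ : ↥(s.S : Subgroup G)))
    have h2 := Subgroup.orderOf_coe (⟨g, hk⟩ : ↥f.ker) ▸ (orderOf_dvd_natCard (⟨g, hk⟩ : ↥f.ker))
    haveI : Fact (Nat.Prime 2) := ⟨Nat.prime_two⟩
    obtain ⟨k, hk⟩ := IsPGroup.iff_card.1 s.S.isPGroup'
    rw [hk] at h1
    refine orderOf_eq_one_iff.1 (Nat.eq_one_of_dvd_coprimes ?_ h1 h2)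
    exact Nat.Coprime.pow_left k (Nat.coprime_two_left.2 hker)
  mem_iff g := by
    rw [Sylow.coe_mapSurjective, Subgroup.mem_map]
    exact ⟨fun ⟨a, ha, h⟩ => by
      obtain ⟨x, y, z, rfl⟩ := (s.mem_iff a).1 ha
      exact ⟨x, y, z, h⟩, fun ⟨x, y, z, h⟩ => ⟨_, s.e_mem x y z, h⟩⟩

theorem map_A {Q : Type u} [Group Q] [Finite Q] (f : G →* Q) (hf : Function.Surjective f)
    (hker : Odd (Nat.card f.ker)) : (s.map f hf hker).A = s.A.map f := by
  ext g
  exact ⟨fun ⟨x, z, h⟩ => ⟨_, ⟨x, z, rfl⟩, h⟩, fun ⟨_, ⟨x, z, rfl⟩, h⟩ => ⟨x, z, h⟩⟩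

/-- A conjugate of `A` lying in `S` is `A` or `B`. -/
theorem conj_A_cases {g : G} (h : ∀ a ∈ s.A, g * a * g⁻¹ ∈ (s.S : Subgroup G)) :
    s.A.map (MulAut.conj g).toMonoidHom = s.A ∨ s.A.map (MulAut.conj g).toMonoidHom = s.B := by
  have hc : Nat.card ↥(s.A.map (MulAut.conj g).toMonoidHom) = qF * qF := by
    rw [card_map_of_injective (MulAut.conj g).injective, s.card_A]
  rcases s.sub_A_or_B (U := s.A.map (MulAut.conj g).toMonoidHom) (by rintro _ ⟨a, ha, rfl⟩; exact h a ha)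
      (by rintro _ ⟨a, ha, rfl⟩; rw [← map_mul, s.A_sq ha, map_one]) with hle | hle
  · exact .inl (eq_of_le_of_card_ge hle (by rw [hc, s.card_A]))
  · exact .inr (eq_of_le_of_card_ge hle (by rw [hc, ← s.mirror_A, s.mirror.card_A]))

/-- `A` and `B` are not conjugate. -/
theorem not_conj (g : G) : s.A.map (MulAut.conj g).toMonoidHom ≠ s.B := by
  intro hg
  haveI : Fact (Nat.Prime 2) := ⟨Nat.prime_two⟩
  set N := normalizer (s.B : Set G)
  have hSN : (s.S : Subgroup G) ≤ N := by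
    have := s.mirror.S_le_normalizer
    rw [s.mirror_A] at this
    exact this
  have hgSN : ((g • s.S : Sylow 2 G) : Subgroup G) ≤ N := by
    rw [Sylow.coe_subgroup_smul, ← Grp.map_conj_eq_smul]
    rintro _ ⟨t, ht, rfl⟩
    refine mem_normalizer_fintype fun b hb => ?_
    rw [← hg] at hb
    obtain ⟨a, ha, rfl⟩ := hb
    rw [← hg]
    refine ⟨t * a * t⁻¹, mem_conj_normalizer (s.S_le_normalizer ht) ha, ?_⟩
    simp [MulAut.conj_apply, mul_assoc]
  obtain ⟨k, hk⟩ := MulAction.exists_smul_eq ↥N ((g • s.S).subtype hgSN) (s.S.subtype hSN)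
  set n := (k : G) * g
  have hn : n • s.S = s.S := by
    rw [mul_smul]
    refine Sylow.ext ?_
    have h6 := congrArg (fun Q : Sylow 2 ↥N => (Q : Subgroup ↥N).map N.subtype) hk
    simp only [Sylow.coe_subgroup_smul, Sylow.coe_subtype, map_subgroupOf_eq_of_le hSN] at h6
    rw [← h6, Sylow.coe_subgroup_smul]
    rw [← Grp.map_conj_eq_smul, ← Grp.map_conj_eq_smul, Subgroup.map_map,
      show N.subtype.comp (MulAut.conj k).toMonoidHom = (MulAut.conj (k : G)).toMonoidHom.comp N.subtype from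
        MonoidHom.ext fun z => rfl, ← Subgroup.map_map, Sylow.coe_subgroup_smul] at *
    rw [map_subgroupOf_eq_of_le hgSN]
  have hnS : n ∈ normalizer ((s.S : Subgroup G) : Set G) := Sylow.smul_eq_iff_mem_normalizer.1 hn
  have hnA : s.A.map (MulAut.conj n).toMonoidHom = s.B := by
    refine eq_of_le_of_card_ge ?_ (by
      rw [card_map_of_injective (MulAut.conj n).injective, ← s.mirror_A, s.mirror.card_A, s.card_A])
    rintro _ ⟨a, ha, rfl⟩
    have h1 : g * a * g⁻¹ ∈ s.B := hg ▸ ⟨a, ha, rfl⟩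
    have h2 := mem_conj_normalizer k.2 h1
    simpa [n, MulAut.conj_apply, mul_assoc] using h2
  -- elements of `N(S)` permute `A` and `B`
  have hperm : ∀ m ∈ normalizer ((s.S : Subgroup G) : Set G),
      s.A.map (MulAut.conj m).toMonoidHom = s.A ∨ s.A.map (MulAut.conj m).toMonoidHom = s.B :=
    fun m hm => s.conj_A_cases fun a ha => mem_conj_normalizer hm (s.A_le ha)
  have hne : s.A ≠ s.B := fun e => one_ne_zero
    (s.e_mem_B.1 (e ▸ (s.e_mem_A.2 rfl : s.e 1 0 0 ∈ s.A)) : (1 : F) = 0)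
  let c : G → Subgroup G := fun m => s.A.map (MulAut.conj m).toMonoidHom
  have hc : ∀ a b : G, c (a * b) = (c b).map (MulAut.conj a).toMonoidHom := fun a b => by
    simp only [c, map_mul, Subgroup.map_map]; rfl
  have hinj : ∀ a : G, Function.Injective (fun U : Subgroup G => U.map (MulAut.conj a).toMonoidHom) :=
    fun a => Subgroup.map_injective (MulAut.conj a).injective
  have hnB : (s.B).map (MulAut.conj n).toMonoidHom = s.A := by
    rcases hperm (n * n) (mul_mem hnS hnS) with h | h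
    · rw [← hnA]; exact (hc n n).symm.trans h
    · exact absurd (hinj n (((hc n n).symm.trans h).trans hnA.symm)).symm (by
        show s.A ≠ c n
        rw [show c n = s.B from hnA]; exact hne)
  have hpow : ∀ j : ℕ, c (n ^ (2 * j)) = s.A ∧ c (n ^ (2 * j + 1)) = s.B := by
    intro j
    induction j with
    | zero =>
      refine ⟨?_, by simp only [mul_zero, zero_add, pow_one]; exact hnA⟩
      simp only [c, mul_zero, pow_zero, map_one]
      exact Subgroup.map_id _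
    | succ j ih =>
      have e1 : c (n ^ (2 * (j + 1))) = s.A := by
        rw [show 2 * (j + 1) = 2 * j + 1 + 1 by ring, pow_succ', hc, ih.2]; exact hnB
      exact ⟨e1, by rw [pow_succ', hc, e1]; exact hnA⟩
  obtain ⟨i, m, hm, he⟩ := Nat.exists_eq_two_pow_mul_odd (orderOf_pos n).ne'
  obtain ⟨j, rfl⟩ := hm
  have hp : IsPGroup 2 (zpowers (n ^ (2 * j + 1))) := fun x => by
    obtain ⟨l, hl⟩ := x.2
    refine ⟨i, Subtype.ext ?_⟩
    rw [SubmonoidClass.coe_pow, ← hl]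
    show ((n ^ (2 * j + 1)) ^ l) ^ 2 ^ i = (1 : G)
    rw [← zpow_natCast ((n ^ (2 * j + 1)) ^ l), ← zpow_mul, mul_comm l, zpow_mul, zpow_natCast, ← pow_mul,
      mul_comm (2 * j + 1), ← he, pow_orderOf_eq_one, one_zpow]
  have hle : zpowers (n ^ (2 * j + 1)) ≤ normalizer ((s.S : Subgroup G) : Set G) := zpowers_le.2 (pow_mem hnS _)
  have hsup := IsPGroup.to_sup_of_normal_right' hp s.S.isPGroup' hle
  have hmem : n ^ (2 * j + 1) ∈ (s.S : Subgroup G) := by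
    have := s.S.is_maximal' hsup le_sup_right
    exact this ▸ mem_sup_left (mem_zpowers _)
  refine hne ?_
  rw [← (hpow j).2]
  refine (eq_of_le_of_card_ge ?_ ?_).symm
  · rintro _ ⟨a, ha, rfl⟩
    exact mem_conj_normalizer (s.S_le_normalizer hmem) ha
  · exact (card_map_of_injective (MulAut.conj _).injective).symm.le

theorem A_pGroup : IsPGroup 2 s.A := s.S.isPGroup'.to_le s.A_le

theorem exists_conj_S {P : Subgroup G} (hP : IsPGroup 2 P) : ∃ h : G, ∀ x ∈ P, h * x * h⁻¹ ∈ (s.S : Subgroup G) := by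
  haveI : Fact (Nat.Prime 2) := ⟨Nat.prime_two⟩
  obtain ⟨Q, hQ⟩ := hP.exists_le_sylow
  obtain ⟨h, hh⟩ := MulAction.exists_smul_eq G Q s.S
  refine ⟨h, fun x hx => ?_⟩
  rw [← hh, Sylow.coe_subgroup_smul, ← Grp.map_conj_eq_smul]
  exact ⟨x, hQ hx, rfl⟩

/-- A 2-group containing and centralising `A` is `A`. -/
theorem le_A_of_centralizes {U : Subgroup G} (hU : IsPGroup 2 U) (hAU : s.A ≤ U)
    (hc : ∀ u ∈ U, ∀ a ∈ s.A, u * a = a * u) : U ≤ s.A := by
  obtain ⟨h, hh⟩ := s.exists_conj_S hU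
  have hA := (s.conj_A_cases fun a ha => hh a (hAU ha)).resolve_right (s.not_conj h)
  have hle : U.map (MulAut.conj h).toMonoidHom ≤ s.A := by
    rintro _ ⟨u, hu, rfl⟩
    obtain ⟨a, ha, e⟩ : s.e 1 0 0 ∈ s.A.map (MulAut.conj h).toMonoidHom := hA.symm ▸ s.e_mem_A.2 rfl
    refine s.mem_A_of_comm (hh u hu) (s.e_mem_A.2 rfl : s.e 1 0 0 ∈ s.A) (fun hb => one_ne_zero (s.e_mem_B.1 hb)) ?_
    rw [← e, MulEquiv.coe_toMonoidHom, ← map_mul, ← map_mul, hc u hu a ha]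
  refine (eq_of_le_of_card_ge hAU ?_).symm.le
  have := Subgroup.card_le_of_le hle
  rwa [card_map_of_injective (MulAut.conj h).injective] at this

/-- The common part of `A` and `B`. -/
def Z : Subgroup G := s.A ⊓ s.B

theorem mem_Z {g : G} : g ∈ s.Z ↔ ∃ z, s.e 0 0 z = g := by
  refine ⟨fun ⟨⟨x, z, e⟩, hB⟩ => ⟨z, ?_⟩, fun ⟨z, e⟩ => e ▸ ⟨s.e_mem_A.2 rfl, s.e_mem_B.2 rfl⟩⟩
  subst e
  rw [s.e_mem_B.1 hB]

theorem Z_le_A : s.Z ≤ s.A := inf_le_left

theorem Z_le_B : s.Z ≤ s.B := inf_le_right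

theorem e_mem_Z {x y z : F} : s.e x y z ∈ s.Z ↔ x = 0 ∧ y = 0 := by
  rw [Z, mem_inf, s.e_mem_A, s.e_mem_B, and_comm]

theorem mirror_Z : s.mirror.Z = s.Z := by rw [Z, Z, s.mirror_A, s.mirror_B, inf_comm]

theorem Z_central {g z : G} (hg : g ∈ (s.S : Subgroup G)) (hz : z ∈ s.Z) : g * z = z * g := by
  obtain ⟨a, b, c, rfl⟩ := (s.mem_iff g).1 hg
  obtain ⟨t, rfl⟩ := s.mem_Z.1 hz
  simp [s.e_mul, add_comm]

theorem card_Z : Nat.card ↥s.Z = qF := by
  have hb : Function.Bijective (fun c : F => (⟨s.e 0 0 c, s.mem_Z.2 ⟨c, rfl⟩⟩ : ↥s.Z)) := by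
    refine ⟨fun a b h => (s.e_inj _ _ _ _ _ _ (congrArg Subtype.val h)).2.2, ?_⟩
    rintro ⟨g, hg⟩
    obtain ⟨c, rfl⟩ := s.mem_Z.1 hg
    exact ⟨c, rfl⟩
  rw [← Nat.card_eq_of_bijective _ hb, Nat.card_eq_fintype_card]

theorem exists_ne_Z : ∃ z ∈ s.Z, z ≠ 1 :=
  ⟨s.e 0 0 1, s.mem_Z.2 ⟨1, rfl⟩, fun h => one_ne_zero (s.e_eq_one.1 h).2.2⟩

theorem A_sup_B : s.A ⊔ s.B = (s.S : Subgroup G) := by
  refine le_antisymm (sup_le s.A_le s.B_le) fun g hg => ?_
  obtain ⟨x, y, z', rfl⟩ := (s.mem_iff g).1 hg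
  have : s.e x y z' = s.e x 0 (z' + x * y) * s.e 0 y 0 := by
    rw [s.e_mul, add_zero, zero_add, add_zero, add_assoc, addSelf, add_zero]
  rw [this]
  exact mul_mem (mem_sup_left (s.e_mem_A.2 rfl)) (mem_sup_right (s.e_mem_B.2 rfl))

theorem mirror_mirror : s.mirror.mirror = s := by
  cases s
  simp only [mirror, mk.injEq, true_and]
  funext x y z
  congr 1
  rw [mul_comm y x, add_assoc, CharTwo.add_self_eq_zero, add_zero]

/-- An element of `A ∖ Z` is moved by `S` to every element of its coset modulo `Z`. -/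
theorem exists_conj_coset {a z : G} (ha : a ∈ s.A) (haB : a ∉ s.B) (hz : z ∈ s.Z) :
    ∃ g ∈ (s.S : Subgroup G), g * a * g⁻¹ = a * z := by
  obtain ⟨x, c, rfl⟩ := ha
  obtain ⟨t, rfl⟩ := s.mem_Z.1 hz
  have hx : x ≠ 0 := fun e => haB (s.e_mem_B.2 e)
  refine ⟨s.e 0 (t / x) 0, s.e_mem _ _ _, ?_⟩
  rw [s.e_conj, s.e_mul, mul_zero, add_zero, add_zero, add_zero, div_mul_cancel₀ _ hx]

open Fus.PSLN in
/-- Coordinates from an isomorphism with a Sylow 2-subgroup of `SL₃`. -/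
theorem exists_shape (hq : 4 ≤ qF) (S : Sylow 2 G) (T : Sylow 2 (Matrix.SpecialLinearGroup (Fin 3) F))
    (σ : ↥(S : Subgroup G) ≃* ↥(T : Subgroup (Matrix.SpecialLinearGroup (Fin 3) F))) :
    ∃ s : Shape G F, s.S = S := by
  haveI : Fact (Nat.Prime 2) := ⟨Nat.prime_two⟩
  obtain ⟨P, hP⟩ := (isPGroup_unip (K := F) (p := 2) (n := 3)).exists_le_sylow
  have heq := eq_unip_of_le (p := 2) P hP
  let f : ↥(unip F 3) ≃* ↥(S : Subgroup G) :=
    ((MulEquiv.subgroupCongr heq).trans (P.equiv T)).trans σ.symm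
  choose M hM h01 h12 h02 using exists_uni (K := F)
  let m : F → F → F → ↥(unip F 3) := fun x y z => ⟨M x y z, hM x y z⟩
  refine ⟨{ hq := hq, S := S, e := fun x y z => (f (m x y z) : G), e_mul := ?_, e_inj := ?_, mem_iff := ?_ }, rfl⟩
  · intro x y z x' y' z'
    rw [← Subgroup.coe_mul, ← map_mul]
    refine congrArg (fun u => ((f u : ↥(S : Subgroup G)) : G)) (Subtype.ext (uni_ext ((hM _ _ _).mul (hM _ _ _)) (hM _ _ _) ?_ ?_ ?_))
    · show ent (M x y z * M x' y' z') 0 1 = _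
      rw [ent_mul_01 (hM _ _ _) (hM _ _ _), h01, h01, h01]
    · show ent (M x y z * M x' y' z') 1 2 = _
      rw [ent_mul_12 (hM _ _ _) (hM _ _ _), h12, h12, h12]
    · show ent (M x y z * M x' y' z') 0 2 = _
      rw [ent_mul_02 (hM _ _ _) (hM _ _ _), h02, h02, h02, h01, h12]
  · intro x y z x' y' z' h
    have h' : M x y z = M x' y' z' := congrArg Subtype.val (f.injective (Subtype.ext h))
    exact ⟨by rw [← h01 x y z, h', h01], by rw [← h12 x y z, h', h12], by rw [← h02 x y z, h', h02]⟩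
  · intro g
    refine ⟨fun hg => ?_, fun ⟨x, y, z, e⟩ => e ▸ SetLike.coe_mem _⟩
    obtain ⟨⟨u, hu⟩, e⟩ := f.surjective ⟨g, hg⟩
    refine ⟨ent u 0 1, ent u 1 2, ent u 0 2, ?_⟩
    refine (congrArg (fun w => ((f w : ↥(S : Subgroup G)) : G)) (Subtype.ext ?_)).trans (congrArg Subtype.val e)
    exact uni_ext (hM _ _ _) hu (h01 _ _ _) (h12 _ _ _) (h02 _ _ _)

end Shape

end Cfsg.Agent.Invol.IsolatedSfour.LType
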